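import Cfsg.Agent.OutPOmega.Std

/-!
# `Out(PΩ(Q))` in characteristic two
-/

set_option autoImplicit false
set_option linter.unusedSectionVars false

namespace CfsgLib.OutPOmega

open Matrix Module CfsgLib.Spinor CfsgLib.Forms CfsgLib.Forms4

section general

variable {F : Type*} [Field F] [Fintype F] [CharP F 2]
  {ι : Type} [Fintype ι] [DecidableEq ι] {Q : QuadraticForm F (ι → F)}
  (hQ : (QuadraticMap.polarBilin Q).Nondegenerate) (hn : 5 ≤ Fintype.card ι) (P : TwoPairs Q)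
  (hsurj : Function.Surjective (outHom ⇑Q))

include hQ hn in
theorem gen_charTwo : ∀ g : ↥(Cfsg.isometryGroup F ⇑Q), ∃ vs, IsReflProd Q g vs :=
  exists_isReflProd_charTwo hQ (Or.inr (by omega))

/-- The parity in characteristic two. -/
noncomputable def par : ↥(Cfsg.isometryGroup F ⇑Q) →* ℤˣ :=
  parityHom hQ (gen_charTwo hQ hn)

theorem par_eq_one_iff (h : ↥(Cfsg.isometryGroup F ⇑Q)) :
    par hQ hn h = 1 ↔ h ∈ Cfsg.Omega F ⇑Q := by
  rw [omega_eq_ker_charTwo hQ (gen_charTwo hQ hn) (Or.inr (by omega)), MonoidHom.mem_ker]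
  rfl

theorem negIso_eq_one : negIso Q = 1 := by
  refine mat_ext Q ?_
  show (Matrix.GeneralLinearGroup.scalar ι (-1 : Fˣ)).1 = 1
  rw [show (-1 : Fˣ) = 1 from Units.ext (by rw [Units.val_neg, Units.val_one, CharTwo.neg_eq]),
    map_one]
  rfl

include hQ hn P in
theorem isoCls_eq_one_charTwo (h : ↥(Cfsg.isometryGroup F ⇑Q)) :
    outHom ⇑Q (isoEmb ⇑Q h) = 1 ↔ par hQ hn h = 1 := by
  rw [isoCls_eq_one_iff hQ hn P, negIso_eq_one, one_mul, or_self, par_eq_one_iff]

include hQ hn P in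
theorem isoCls_eq_of_par {h h' : ↥(Cfsg.isometryGroup F ⇑Q)} (e : par hQ hn h = par hQ hn h') :
    outHom ⇑Q (isoEmb ⇑Q h) = outHom ⇑Q (isoEmb ⇑Q h') :=
  isoCls_eq_of hQ hn P ((par_eq_one_iff hQ hn _).1 (by rw [map_mul, map_inv, e, inv_mul_cancel]))

/-- The class of the reflections. -/
noncomputable def reflCls : Cfsg.Out (Cfsg.POmega F ⇑Q) :=
  outHom ⇑Q (isoEmb ⇑Q (reflIso Q (P.e + P.f) (by rw [exists_anis P]; exact one_ne_zero)))

theorem par_reflIso (v : ι → F) (hv : Q v ≠ 0) : par hQ hn (reflIso Q v hv) = -1 :=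
  parityHom_reflIso hQ _ v hv

include hQ hn in
theorem reflCls_facts {f : ℕ} (Φ : FieldGen P f) :
    reflCls P ^ 2 = 1 ∧ reflCls P ≠ 1 ∧ Commute (reflCls P) (outHom ⇑Q Φ.φ) := by
  refine ⟨?_, ?_, ?_⟩
  · rw [reflCls, pow_two, ← map_mul, ← map_mul, isoCls_eq_one_charTwo hQ hn P, map_mul, par_reflIso]
    decide
  · rw [reflCls, Ne, isoCls_eq_one_charTwo hQ hn P, par_reflIso]
    decide
  · refine (mul_inv_eq_iff_eq_mul.1 ?_).symm
    rw [reflCls, isoCls_conj, conjIso_reflIso]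
    exact isoCls_eq_of_par hQ hn P (by rw [par_reflIso, par_reflIso])

include hQ hn in
theorem exists_pow_refl {x : ↥(semi ⇑Q)} (hx : fldHom ⇑Q x = 1) :
    outHom ⇑Q x = 1 ∨ outHom ⇑Q x = reflCls P := by
  obtain ⟨r, hr⟩ := FiniteField.isSquare_of_char_two (ringChar.eq F 2) (mult x : F)
  have hr0 : r ≠ 0 := fun h => Units.ne_zero (mult x) (by rw [hr, h, mul_zero])
  obtain ⟨h, hh⟩ := exists_iso_of_mult P hx (t := Units.mk0 r hr0) (Units.ext (by rw [hr]; rfl))
  rw [hh, map_mul, (outHom_eq_one_iff hQ hn P _).2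
    ⟨Units.mk0 r hr0, 1, by rw [OneMemClass.coe_one, map_one, mul_one]⟩, one_mul]
  rcases Int.units_eq_one_or (par hQ hn h) with e | e
  · exact Or.inl ((isoCls_eq_one_charTwo hQ hn P h).2 e)
  · exact Or.inr (isoCls_eq_of_par hQ hn P (by rw [e, par_reflIso]))

include hQ hn hsurj in
theorem out_decomp {f : ℕ} (Φ : FieldGen P f) (g : Cfsg.Out (Cfsg.POmega F ⇑Q)) :
    ∃ (i k : ℤ), g = reflCls P ^ i * outHom ⇑Q Φ.φ ^ k := by
  obtain ⟨x, rfl⟩ := hsurj g
  obtain ⟨k, hk⟩ := Φ.gen (fldHom ⇑Q x)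
  set y := x * (Φ.φ ^ k)⁻¹ with hy
  have hyf : fldHom ⇑Q y = 1 := by rw [hy, map_mul, map_inv, map_zpow, ← hk, mul_inv_cancel]
  obtain ⟨i, hi⟩ : ∃ i : ℤ, outHom ⇑Q y = reflCls P ^ i := by
    rcases exists_pow_refl hQ hn P hyf with e | e
    · exact ⟨0, by rw [e, zpow_zero]⟩
    · exact ⟨1, by rw [e, zpow_one]⟩
  exact ⟨i, k, by rw [← hi, ← map_zpow, ← map_mul, hy, inv_mul_cancel_right]⟩

include hQ hn hsurj in
/-- Split field part. -/
theorem out_charTwo_split {f : ℕ} (Φ : FieldGen P f) (hpow : Φ.φ ^ f = 1) :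
    Nonempty (Cfsg.Out (Cfsg.POmega F ⇑Q) ≃* Multiplicative (ZMod 2 × ZMod f)) := by
  obtain ⟨hR2, hne, hcomm⟩ := reflCls_facts hQ hn P Φ
  have hΦf : outHom ⇑Q Φ.φ ^ f = 1 := by rw [← map_pow, hpow, map_one]
  obtain ⟨E⟩ : Nonempty (Cfsg.Out (Cfsg.POmega F ⇑Q) ≃*
      Multiplicative (ZMod 2) × Multiplicative (ZMod f)) := by
    refine exists_prod_mulEquiv (powHom 2 (reflCls P) hR2) (powHom f (outHom ⇑Q Φ.φ) hΦf) ?_
      (fldOut hQ hn P hsurj) (powHom_injective 2 _ hR2 (orderOf_eq_prime hR2 hne)) ?_ ?_ ?_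
    · intro x y
      obtain ⟨i, -, hi⟩ := powHom_exists 2 _ hR2 x
      obtain ⟨j, -, hj⟩ := powHom_exists f _ hΦf y
      rw [hi, hj]
      exact hcomm.zpow_zpow i j
    · intro x
      obtain ⟨i, -, hi⟩ := powHom_exists 2 _ hR2 x
      rw [hi, map_zpow, reflCls, fldOut_outHom]
      exact _root_.one_zpow i
    · rw [injective_iff_map_eq_one]
      intro y hy
      obtain ⟨j, rfl, hj⟩ := powHom_exists f _ hΦf y
      rw [MonoidHom.comp_apply, hj, map_zpow, fldOut_outHom, ← orderOf_dvd_iff_zpow_eq_one,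
        Φ.ord, ← ZMod.intCast_zmod_eq_zero_iff_dvd] at hy
      rw [hy, ofAdd_zero]
    · intro g
      obtain ⟨i, k, rfl⟩ := out_decomp hQ hn P hsurj Φ g
      exact ⟨Multiplicative.ofAdd (i : ZMod 2), Multiplicative.ofAdd (k : ZMod f),
        by rw [powHom_int, powHom_int]⟩
  exact ⟨E.trans (MulEquiv.prodMultiplicative (G := ZMod 2) (H := ZMod f)).symm⟩

include hQ hn hsurj in
/-- Nonsplit field part: the field generator reaches the reflections. -/
theorem out_charTwo_cyclic {f : ℕ} (hf : 1 ≤ f) (Φ : FieldGen P f)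
    (hpow : outHom ⇑Q Φ.φ ^ f = reflCls P) :
    IsCyclic (Cfsg.Out (Cfsg.POmega F ⇑Q)) ∧
      Nat.card (Cfsg.Out (Cfsg.POmega F ⇑Q)) = 2 * f := by
  obtain ⟨hR2, hne, -⟩ := reflCls_facts hQ hn P Φ
  set c := outHom ⇑Q Φ.φ with hc
  have hgen : ∀ g, g ∈ Subgroup.zpowers c := fun g => by
    obtain ⟨i, k, rfl⟩ := out_decomp hQ hn P hsurj Φ g
    rw [← hpow]
    exact mul_mem (zpow_mem (pow_mem (Subgroup.mem_zpowers c) f) i)
      (zpow_mem (Subgroup.mem_zpowers c) k)
  refine ⟨⟨c, hgen⟩, ?_⟩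
  rw [← orderOf_eq_card_of_forall_mem_zpowers hgen]
  have h1 : f ∣ orderOf c := by
    have := orderOf_map_dvd (fldOut hQ hn P hsurj) c
    rwa [hc, fldOut_outHom, Φ.ord] at this
  have h2 : orderOf c ∣ 2 * f :=
    orderOf_dvd_of_pow_eq_one (by rw [mul_comm, pow_mul, hpow, hR2])
  obtain ⟨t, ht⟩ := h1
  rw [ht, mul_comm 2 f] at h2
  rcases (Nat.dvd_prime Nat.prime_two).1 ((Nat.mul_dvd_mul_iff_left (by omega)).1 h2) with rfl | rfl
  · exact absurd (hpow.symm.trans (orderOf_dvd_iff_pow_eq_one.1 (dvd_of_eq (by omega)))) hne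
  · rw [ht, mul_comm]

end general

section minus

open Polynomial in
theorem exists_trace_one {F : Type*} [Field F] [Fintype F] [CharP F 2] {f : ℕ} (hf : 1 ≤ f)
    (hF : Fintype.card F = 2 ^ f) : ∃ c : F, ∑ j ∈ Finset.range f, c ^ 2 ^ j = 1 := by
  classical
  by_contra hc
  push Not at hc
  have hsq : ∀ x : F, (∑ j ∈ Finset.range f, x ^ 2 ^ j) ^ 2 = ∑ j ∈ Finset.range f, x ^ 2 ^ j := by
    intro x
    have h1 := CharTwo.sum_sq (Finset.range f) fun j => x ^ 2 ^ j
    rw [h1]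
    simp only [← pow_mul, ← pow_succ]
    have h := Finset.sum_range_succ' (fun j => x ^ 2 ^ j) f
    rw [Finset.sum_range_succ, ← hF, FiniteField.pow_card] at h
    simpa using h.symm
  have h0 : ∀ x : F, ∑ j ∈ Finset.range f, x ^ 2 ^ j = 0 := fun x => by
    rcases mul_eq_zero.1 (show (∑ j ∈ Finset.range f, x ^ 2 ^ j) *
        ((∑ j ∈ Finset.range f, x ^ 2 ^ j) - 1) = 0 by linear_combination hsq x) with h | h
    · exact h
    · exact absurd (sub_eq_zero.1 h) (hc x)
  set p : F[X] := ∑ j ∈ Finset.range f, X ^ 2 ^ j with hp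
  have hp0 : p.coeff 1 = 1 := by
    rw [hp, Polynomial.finsetSum_coeff, Finset.sum_eq_single 0]
    · simp
    · intro j _ hj
      rw [Polynomial.coeff_X_pow, if_neg (ne_of_lt (Nat.one_lt_pow hj one_lt_two))]
    · intro h; exact absurd (Finset.mem_range.2 (by omega)) h
  have hne : p ≠ 0 := fun h => by rw [h, Polynomial.coeff_zero] at hp0; exact zero_ne_one hp0
  refine hne (Polynomial.eq_zero_of_natDegree_lt_card_of_eval_eq_zero (R := F) p (ι := F)
    (f := id) Function.injective_id (fun x => by simp [hp, Polynomial.eval_finsetSum, h0]) ?_)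
  refine lt_of_le_of_lt (Polynomial.natDegree_sum_le_of_forall_le _ _ (n := 2 ^ (f - 1))
    fun j hj => ?_) ?_
  · rw [Polynomial.natDegree_X_pow]
    exact Nat.pow_le_pow_right two_pos (by have := Finset.mem_range.1 hj; omega)
  · rw [hF]
    exact Nat.pow_lt_pow_right one_lt_two (by omega)

variable {F : Type*} [Field F] [Fintype F] [CharP F 2] {f : ℕ}

/-- The iterates of `x ↦ x² + ζ` at zero. -/
def asSum (ζ : F) : ℕ → F
  | 0 => 0
  | j + 1 => asSum ζ j ^ 2 + ζ

theorem asSum_sq_eq (hf : 1 ≤ f) (hF : Fintype.card F = 2 ^ f) (ζ : F) (h : asSum ζ f = 0) :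
    ∃ z : F, z ^ 2 + z + ζ = 0 := by
  obtain ⟨c, hc⟩ := exists_trace_one hf hF
  refine ⟨∑ j ∈ Finset.range f, asSum ζ j * c ^ 2 ^ j, ?_⟩
  set g := fun j => asSum ζ j * c ^ 2 ^ j with hg
  have h1 : (∑ j ∈ Finset.range f, g j) ^ 2 =
      (∑ j ∈ Finset.range f, g (j + 1)) + ζ * ∑ j ∈ Finset.range f, c ^ 2 ^ (j + 1) := by
    rw [CharTwo.sum_sq, Finset.mul_sum, ← Finset.sum_add_distrib]
    refine Finset.sum_congr rfl fun j _ => ?_
    rw [hg]
    simp only [asSum, pow_succ 2 j, pow_mul, mul_pow]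
    linear_combination (-ζ) * (CharTwo.add_self_eq_zero ((c ^ 2 ^ j) ^ 2))
  have shift : ∀ u : ℕ → F, u f = u 0 →
      ∑ j ∈ Finset.range f, u (j + 1) = ∑ j ∈ Finset.range f, u j := fun u hu => by
    have := Finset.sum_range_succ' u f
    rw [Finset.sum_range_succ, hu] at this
    exact (add_right_cancel this).symm
  rw [h1, shift g (by simp [hg, h, asSum]), shift (fun j => c ^ 2 ^ j)
    (by rw [← hF, FiniteField.pow_card, pow_zero, pow_one]), hc, mul_one]
  linear_combination ((∑ j ∈ Finset.range f, g j) + ζ) * CharTwo.two_eq_zero (R := F)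

variable {a b : F} (hab : ∀ z₁ z₂ : F, z₁ ^ 2 + a * z₁ * z₂ + b * z₂ ^ 2 = 0 → z₁ = 0 ∧ z₂ = 0)

include hab in
theorem a_ne_zero : a ≠ 0 := by
  intro ha
  obtain ⟨r, hr⟩ := FiniteField.isSquare_of_char_two (ringChar.eq F 2) b
  refine one_ne_zero (α := F) (hab r 1 ?_).2
  rw [ha, hr]
  linear_combination CharTwo.add_self_eq_zero (r * r)

include hab in
theorem exists_minus_fieldGen_charTwo (hF : Fintype.card F = 2 ^ f) (hf : 1 ≤ f) (k : ℕ)
    (hn : 5 ≤ Fintype.card ((Fin k ⊕ Fin k) ⊕ Fin 2))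
    (P : TwoPairs (CfsgLib.StdForms.minusQ k F a b)) :
    ∃ Φ : FieldGen P f, outHom ⇑(CfsgLib.StdForms.minusQ k F a b) Φ.φ ^ f = reflCls P := by
  classical
  have : Fact (Nat.Prime 2) := ⟨Nat.prime_two⟩
  obtain ⟨σ, hσ, hord, hgen⟩ := exists_frob (F := F) hF hf
  have ha := a_ne_zero hab
  obtain ⟨φ, ⟨hφ1, hφ2⟩, hφ3⟩ := exists_semi_of_matrix (Q := CfsgLib.StdForms.minusQ k F a b)
    (Matrix.fromBlocks (Matrix.diagonal (Sum.elim (fun _ => 1) fun _ => 1)) 0 0 !![1, b; 0, a])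
    (by
      rw [det_minus_block, Matrix.det_fin_two]
      simp [ha])
    σ 1 one_ne_zero (minus_block k a b _ 1 σ _ (fun _ => rfl) fun z₁ z₂ => by
      simp only [Matrix.of_apply, Matrix.cons_val_zero, Matrix.cons_val_one,
        Matrix.cons_val', map_add, map_mul, map_pow]
      rw [hσ a, hσ b]
      linear_combination (a ^ 2 * b * σ z₂ ^ 2 + b * σ z₁ * σ z₂) * CharTwo.two_eq_zero (R := F)) P
  refine ⟨⟨φ, Units.ext hφ2, by rw [hφ1]; exact hord, fun τ => by rw [hφ1]; exact hgen τ⟩, ?_⟩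
  set ζ := b / a ^ 2 with hζ
  have hind : ∀ j : ℕ, (φ ^ j).1.left.1 = Matrix.fromBlocks 1 0 0
      !![1, a ^ 2 ^ j * asSum ζ j; 0, a ^ (2 ^ j - 1)] := by
    intro j
    induction j with
    | zero =>
      simp only [pow_zero, asSum, mul_zero, Nat.sub_self, ← Matrix.one_fin_two, Matrix.fromBlocks_one]
      rfl
    | succ j ih =>
      rw [pow_succ']
      show φ.1.left.1 * (φ ^ j).1.left.1.map φ.1.right = _
      rw [hφ3, ih, Matrix.fromBlocks_map, Matrix.map_one _ (map_zero _) (map_one _),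
        Matrix.map_zero _ (map_zero _), Matrix.map_zero _ (map_zero _), Matrix.fromBlocks_multiply,
        show φ.1.right = σ from hφ1]
      simp only [Matrix.mul_one, Matrix.mul_zero, add_zero, Matrix.zero_mul, zero_add]
      congr 1
      · ext i i'
        rcases i with i | i <;> rcases i' with i' | i' <;>
          simp [Matrix.diagonal_apply, Matrix.one_apply]
      · have e1 : (a ^ (2 ^ j - 1)) ^ 2 = a ^ (2 ^ (j + 1) - 2) := by
          rw [← pow_mul]; congr 1; rw [pow_succ]; omega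
        have e2 : a * a ^ (2 ^ (j + 1) - 2) = a ^ (2 ^ (j + 1) - 1) := by
          rw [← pow_succ']; congr 1
          have := Nat.one_le_two_pow (n := j)
          rw [pow_succ]; omega
        have e3 : a ^ 2 * a ^ (2 ^ (j + 1) - 2) = a ^ 2 ^ (j + 1) := by
          rw [← pow_add]; congr 1
          have := Nat.one_le_two_pow (n := j)
          rw [pow_succ]; omega
        ext i i'
        fin_cases i <;> fin_cases i' <;>
          simp [Matrix.mul_apply, Fin.sum_univ_two, hσ, e1, e2, asSum, ← e3, hζ, mul_pow]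
        field_simp
        have e4 : a * a ^ (2 ^ j - 1) = a ^ 2 ^ j := by
          rw [← pow_succ']; congr 1
          have := Nat.one_le_two_pow (n := j)
          omega
        rw [← e1, ← e4]
        ring
  have hS : asSum ζ f = 1 := by
    have hs : ∀ j, asSum ζ (j + 1) = asSum ζ j ^ 2 + ζ := fun j => rfl
    have hne : asSum ζ f ≠ 0 := fun h => by
      obtain ⟨z, hz⟩ := asSum_sq_eq hf hF ζ h
      refine one_ne_zero (α := F) (hab (a * z) 1 ?_).2
      rw [hζ] at hz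
      field_simp at hz
      linear_combination hz
    have hiso := mult_spec (φ ^ f)
    have hfix : (φ ^ f).1.right = 1 := by
      show fldHom _ (φ ^ f) = 1
      rw [map_pow, hφ1]
      exact orderOf_dvd_iff_pow_eq_one.1 (dvd_of_eq hord)
    have h1 := hiso (Pi.single (Sum.inr 1) 1)
    rw [mult_pow_of_one P (Units.ext hφ2), hfix] at h1
    simp only [act, hfix, hind, RingAut.one_apply, Units.val_one, one_mul] at h1
    rw [show a ^ 2 ^ f = a by rw [← hF]; exact FiniteField.pow_card a,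
      show a ^ (2 ^ f - 1) = 1 by rw [← hF]; exact FiniteField.pow_card_sub_one_eq_one a ha,
      Matrix.fromBlocks_mulVec] at h1
    simp [CfsgLib.StdForms.minusQ_apply, Cfsg.quadFormMinus, Matrix.mulVec, dotProduct,
      Fin.sum_univ_two, Pi.single_apply] at h1
    have h2 : asSum ζ f * (asSum ζ f + 1) = 0 := mul_left_cancel₀ (pow_ne_zero 2 ha) (by
      linear_combination h1)
    exact CharTwo.add_eq_zero.1 ((mul_eq_zero.1 h2).resolve_left hne)
  have hv : CfsgLib.StdForms.minusQ k F a b (Pi.single (Sum.inr 0) 1) = 1 := by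
    simp [CfsgLib.StdForms.minusQ_apply, Cfsg.quadFormMinus, Pi.single_apply]
  have hQ := CfsgLib.StdForms.minusQ_nondegenerate k (disc_ne_zero hab)
  have e : φ ^ f = isoEmb _ (reflIso (CfsgLib.StdForms.minusQ k F a b) (Pi.single (Sum.inr 0) 1)
      (by rw [hv]; exact one_ne_zero)) := by
    refine Subtype.ext (SemidirectProduct.ext (Units.ext (Matrix.ext_iff_mulVec.2 fun w => ?_)) ?_)
    · rw [hind, hS, show a ^ 2 ^ f = a by rw [← hF]; exact FiniteField.pow_card a,
        show a ^ (2 ^ f - 1) = 1 by rw [← hF]; exact FiniteField.pow_card_sub_one_eq_one a ha]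
      show _ = Cfsg.reflectionMatrix _ _ *ᵥ w
      rw [reflectionMatrix_mulVec, refl_apply, hv, inv_one, one_mul, CharTwo.sub_eq_add]
      rw [Matrix.fromBlocks_mulVec]
      funext i
      rcases i with i | i
      · simp
      · fin_cases i <;>
          simp [Matrix.mulVec, dotProduct, Fin.sum_univ_two, CfsgLib.StdForms.polar_minus,
            Pi.single_apply, CharTwo.two_eq_zero]
    · show fldHom _ (φ ^ f) = 1
      rw [map_pow, hφ1]
      exact orderOf_dvd_iff_pow_eq_one.1 (dvd_of_eq hord)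
  rw [← map_pow, e]
  exact isoCls_eq_of_par hQ hn P (by rw [par_reflIso, par_reflIso])

end minus

end CfsgLib.OutPOmega
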