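import Mathlib

/-!
# Recognising the small groups `Out(PΩ)` from generators and relations

A `Skeleton` records a group with a map onto a cyclic field part, a sign, and a four element kernel.
-/

set_option autoImplicit false

namespace CfsgLib.OutPOmega

open DihedralGroup

variable {G : Type*} [Group G]

/-- Powers of an element with `b ^ n = 1`, indexed by `ZMod n`. -/
def powHom (n : ℕ) (b : G) (h : b ^ n = 1) : Multiplicative (ZMod n) →* G :=
  AddMonoidHom.toMultiplicativeLeft (ZMod.lift n ⟨zmultiplesHom (Additive G) (Additive.ofMul b), by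
    rw [zmultiplesHom_apply, natCast_zsmul, ← ofMul_pow, h, ofMul_one]⟩)

theorem powHom_int (n : ℕ) (b : G) (h : b ^ n = 1) (k : ℤ) :
    powHom n b h (Multiplicative.ofAdd (k : ZMod n)) = b ^ k := by
  show Additive.toMul (ZMod.lift n _ (k : ZMod n)) = _
  rw [ZMod.lift_coe, zmultiplesHom_apply, ← ofMul_zpow]
  rfl

theorem powHom_one (n : ℕ) (b : G) (h : b ^ n = 1) :
    powHom n b h (Multiplicative.ofAdd 1) = b := by
  simpa using powHom_int n b h 1

theorem powHom_exists (n : ℕ) (b : G) (h : b ^ n = 1) (x : Multiplicative (ZMod n)) :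
    ∃ k : ℤ, x = Multiplicative.ofAdd (k : ZMod n) ∧ powHom n b h x = b ^ k := by
  obtain ⟨k, hk⟩ := ZMod.intCast_surjective (Multiplicative.toAdd x)
  have hx : x = Multiplicative.ofAdd (k : ZMod n) := by rw [hk, ofAdd_toAdd]
  exact ⟨k, hx, by rw [hx, powHom_int]⟩

theorem powHom_injective (n : ℕ) (b : G) (h : b ^ n = 1) (hn : orderOf b = n) :
    Function.Injective (powHom n b h) := by
  rw [injective_iff_map_eq_one]
  intro x hx
  obtain ⟨k, rfl, hk⟩ := powHom_exists n b h x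
  rw [hk, ← orderOf_dvd_iff_zpow_eq_one, hn, ← ZMod.intCast_zmod_eq_zero_iff_dvd] at hx
  rw [hx, ofAdd_zero]

theorem powHom_commute (n : ℕ) (b c : G) (h : b ^ n = 1) (hc : Commute c b)
    (x : Multiplicative (ZMod n)) : Commute c (powHom n b h x) := by
  obtain ⟨k, -, hk⟩ := powHom_exists n b h x
  rw [hk]
  exact hc.zpow_right k

/-- Recognising a direct product. -/
theorem exists_prod_mulEquiv {A B H : Type*} [Group A] [Group B] [Group H] (a : A →* G) (b : B →* G)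
    (comm : ∀ x y, Commute (a x) (b y)) (χ : G →* H) (ha : Function.Injective a)
    (hχ : ∀ x, χ (a x) = 1) (hb : Function.Injective (χ.comp b))
    (hgen : ∀ g, ∃ x y, g = a x * b y) : Nonempty (G ≃* A × B) := by
  refine ⟨(MulEquiv.ofBijective (a.noncommCoprod b comm) ⟨?_, fun g => ?_⟩).symm⟩
  · rw [injective_iff_map_eq_one]
    rintro ⟨x, y⟩ hxy
    rw [MonoidHom.noncommCoprod_apply] at hxy
    have hy : y = 1 := by
      refine hb ?_
      have := congrArg χ hxy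
      rw [map_mul, hχ, one_mul, map_one] at this
      rw [MonoidHom.comp_apply, this, map_one]
    rw [hy, map_one, mul_one] at hxy
    exact Prod.ext (ha (hxy.trans (map_one a).symm)) hy
  · obtain ⟨x, y, hxy⟩ := hgen g
    exact ⟨(x, y), hxy.symm⟩

/-- The map on the dihedral group of order eight given by a rotation and a reflection. -/
def dihedralMap (ρ s : G) : DihedralGroup 4 → G
  | r i => ρ ^ i.val
  | sr i => s * ρ ^ i.val

theorem pow_four_mod {ρ : G} (hρ : ρ ^ 4 = 1) (a : ℕ) : ρ ^ a = ρ ^ (a % 4) := by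
  conv_lhs => rw [← Nat.mod_add_div a 4, pow_add, pow_mul, hρ, one_pow, mul_one]

/-- The homomorphism on the dihedral group of order eight. -/
def dihedralHom (ρ s : G) (hρ : ρ ^ 4 = 1) (hs : s * s = 1) (hsρ : s * ρ * s = ρ ^ 3) :
    DihedralGroup 4 →* G :=
  MonoidHom.mk' (dihedralMap ρ s) fun x y => by
    have hinv : ∀ a : ℕ, ρ ^ a * s = s * ρ ^ (3 * a) := fun a => by
      induction a with
      | zero => simp
      | succ a ih =>
        have h1 : ρ * s = s * ρ ^ 3 := by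
          rw [← hsρ, ← mul_assoc, ← mul_assoc, hs, one_mul]
        rw [pow_succ, mul_assoc, h1, ← mul_assoc, ih, mul_assoc, ← pow_add, mul_add, mul_one]
    have key : ∀ a b : ℕ, ρ ^ a * ρ ^ b = ρ ^ ((a + b) % 4) := fun a b => by
      rw [← pow_add, pow_four_mod hρ]
    rcases x with i | i <;> rcases y with j | j
    · rw [r_mul_r]
      show ρ ^ (i + j).val = ρ ^ i.val * ρ ^ j.val
      rw [key, ZMod.val_add]
    · rw [r_mul_sr]
      show s * ρ ^ (j - i).val = ρ ^ i.val * (s * ρ ^ j.val)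
      rw [← mul_assoc, hinv, mul_assoc, key]
      congr 2
      revert i j; decide
    · rw [sr_mul_r]
      show s * ρ ^ (i + j).val = s * ρ ^ i.val * ρ ^ j.val
      rw [mul_assoc, key, ZMod.val_add]
    · rw [sr_mul_sr]
      show ρ ^ (j - i).val = s * ρ ^ i.val * (s * ρ ^ j.val)
      rw [mul_assoc, ← mul_assoc (ρ ^ i.val) s, hinv, mul_assoc, key, ← mul_assoc, hs, one_mul]
      congr 1
      revert i j; decide

theorem dihedralHom_r (ρ s : G) (hρ : ρ ^ 4 = 1) (hs : s * s = 1) (hsρ : s * ρ * s = ρ ^ 3)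
    (i : ZMod 4) : dihedralHom ρ s hρ hs hsρ (r i) = ρ ^ i.val := rfl

theorem dihedralHom_sr (ρ s : G) (hρ : ρ ^ 4 = 1) (hs : s * s = 1) (hsρ : s * ρ * s = ρ ^ 3)
    (i : ZMod 4) : dihedralHom ρ s hρ hs hsρ (sr i) = s * ρ ^ i.val := rfl

theorem dihedralHom_injective (ρ s : G) (hρ : ρ ^ 4 = 1) (hs : s * s = 1)
    (hsρ : s * ρ * s = ρ ^ 3) (hne : ρ ^ 2 ≠ 1) :
    Function.Injective (dihedralHom ρ s hρ hs hsρ) := by
  rw [injective_iff_map_eq_one]
  rintro (i | i) h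
  · rw [dihedralHom_r] at h
    by_contra hi
    refine hne ?_
    have hi' : i ≠ 0 := fun e => hi (by rw [e]; rfl)
    have h' : i.val = 1 ∨ i.val = 2 ∨ i.val = 3 :=
      (by decide : ∀ j : ZMod 4, j ≠ 0 → j.val = 1 ∨ j.val = 2 ∨ j.val = 3) i hi'
    rcases h' with e | e | e <;> rw [e] at h
    · rw [pow_one] at h; rw [h, one_pow]
    · exact h
    · calc ρ ^ 2 = ρ ^ 2 * (ρ ^ 3) ^ 2 := by rw [h, one_pow, mul_one]
        _ = (ρ ^ 4) ^ 2 := by rw [← pow_mul, ← pow_mul, ← pow_add]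
        _ = 1 := by rw [hρ, one_pow]
  · rw [dihedralHom_sr] at h
    exfalso
    refine hne ?_
    have hc : s * ρ * s = ρ := by
      have e : s = (ρ ^ i.val)⁻¹ := eq_inv_of_mul_eq_one_left h
      have hcom : Commute s ρ := by rw [e]; exact ((Commute.refl ρ).pow_left _).inv_left
      rw [hcom.eq, mul_assoc, hs, mul_one]
    rw [hc] at hsρ
    calc ρ ^ 2 = ρ * ρ := pow_two ρ
      _ = ρ ^ 3 * ρ := by rw [← hsρ]
      _ = 1 := by rw [← pow_succ, hρ]

/-- The shape of `Out(PΩ)`: a field part generated by `Φ`, a sign realised by `D`, and a kernel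
generated by two commuting involutions. -/
structure Skeleton (G : Type*) [Group G] (H : Type*) [Group H] (f : ℕ) where
  /-- field part -/
  fld : G →* H
  /-- sign -/
  cls : G →* ℤˣ
  /-- first involution -/
  R1 : G
  /-- second involution -/
  R2 : G
  /-- realises the sign -/
  D : G
  /-- generates the field part -/
  Φ : G
  fld_gen : ∀ g, ∃ k : ℤ, fld g = fld Φ ^ k
  ord_fld : orderOf (fld Φ) = f
  fld_D : fld D = 1
  cls_D : cls D = -1
  cls_Φ : cls Φ = 1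
  fld_R1 : fld R1 = 1
  fld_R2 : fld R2 = 1
  cls_R1 : cls R1 = 1
  cls_R2 : cls R2 = 1
  sq_R1 : R1 * R1 = 1
  sq_R2 : R2 * R2 = 1
  comm : Commute R1 R2
  ker : ∀ g, fld g = 1 → cls g = 1 → g = 1 ∨ g = R1 ∨ g = R2 ∨ g = R1 * R2
  swap : D * R1 * D⁻¹ = R2
  swap' : D * R2 * D⁻¹ = R1
  fix1 : Commute Φ R1
  fix2 : Commute Φ R2

namespace Skeleton

variable {H : Type*} [Group H] {f : ℕ} (S : Skeleton G H f)

theorem decomp (g : G) :
    ∃ (e : ℕ) (k : ℤ) (n : G), (n = 1 ∨ n = S.R1 ∨ n = S.R2 ∨ n = S.R1 * S.R2) ∧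
      g = n * S.D ^ e * S.Φ ^ k := by
  obtain ⟨k, hk⟩ := S.fld_gen g
  have h0 : S.fld (g * S.Φ ^ (-k)) = 1 := by
    rw [map_mul, map_zpow, hk, ← zpow_add, add_neg_cancel, zpow_zero]
  have h1 : S.cls (g * S.Φ ^ (-k)) = S.cls g := by
    rw [map_mul, map_zpow, S.cls_Φ, one_zpow, mul_one]
  rcases Int.units_eq_one_or (S.cls g) with h | h
  · refine ⟨0, k, g * S.Φ ^ (-k), S.ker _ h0 (h1.trans h), ?_⟩
    rw [pow_zero, mul_one, zpow_neg, inv_mul_cancel_right]
  · refine ⟨1, k, g * S.Φ ^ (-k) * S.D⁻¹, S.ker _ ?_ ?_, ?_⟩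
    · rw [map_mul, h0, map_inv, S.fld_D, inv_one, one_mul]
    · rw [map_mul, h1, h, map_inv, S.cls_D]; decide
    · rw [pow_one, inv_mul_cancel_right, zpow_neg, inv_mul_cancel_right]

theorem fld_pow_eq_one {k : ℤ} (h : S.fld S.Φ ^ k = 1) : (k : ZMod f) = 0 := by
  rw [← orderOf_dvd_iff_zpow_eq_one, S.ord_fld] at h
  rwa [ZMod.intCast_zmod_eq_zero_iff_dvd]

theorem fld_powHom_injective {n : ℕ} (b : G) (hb : b ^ n = 1) (hn : n = f)
    (hfb : S.fld b = S.fld S.Φ) : Function.Injective (S.fld.comp (powHom n b hb)) := by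
  rw [injective_iff_map_eq_one]
  intro x hx
  obtain ⟨k, rfl, hk⟩ := powHom_exists n b hb x
  rw [MonoidHom.comp_apply, hk, map_zpow, hfb] at hx
  subst hn
  rw [S.fld_pow_eq_one hx, ofAdd_zero]

theorem sq12 : S.R1 * S.R2 * (S.R1 * S.R2) = 1 := by
  calc S.R1 * S.R2 * (S.R1 * S.R2) = S.R1 * (S.R2 * S.R1) * S.R2 := by group
    _ = S.R1 * (S.R1 * S.R2) * S.R2 := by rw [S.comm.symm.eq]
    _ = S.R1 * S.R1 * (S.R2 * S.R2) := by group
    _ = 1 := by rw [S.sq_R1, S.sq_R2, one_mul]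

theorem pow_f : S.fld (S.Φ ^ f) = 1 ∧ S.cls (S.Φ ^ f) = 1 := by
  refine ⟨?_, ?_⟩
  · rw [map_pow]
    exact orderOf_dvd_iff_pow_eq_one.1 (dvd_of_eq S.ord_fld)
  · rw [map_pow, S.cls_Φ, one_pow]

/-- The dihedral case. -/
theorem dihedral (h12 : S.R1 * S.R2 ≠ 1) (hpow : S.Φ ^ f = 1 ∨ Odd f) :
    Nonempty (G ≃* DihedralGroup 4 × Multiplicative (ZMod f)) := by
  -- make `Φ ^ f = 1`
  obtain ⟨Φ, hΦf, hΦfld, hΦcls, hΦ1, hΦ2⟩ : ∃ Φ, Φ ^ f = 1 ∧ S.fld Φ = S.fld S.Φ ∧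
      S.cls Φ = 1 ∧ Commute Φ S.R1 ∧ Commute Φ S.R2 := by
    rcases hpow with h | h
    · exact ⟨S.Φ, h, rfl, S.cls_Φ, S.fix1, S.fix2⟩
    · set u := S.Φ ^ f with hu
      obtain ⟨e1, e2⟩ := S.pow_f
      have hu2 : u * u = 1 ∧ Commute u S.R1 ∧ Commute u S.R2 := by
        rcases S.ker u e1 e2 with e | e | e | e <;> rw [e]
        · exact ⟨one_mul 1, Commute.one_left _, Commute.one_left _⟩
        · exact ⟨S.sq_R1, Commute.refl _, S.comm⟩
        · exact ⟨S.sq_R2, S.comm.symm, Commute.refl _⟩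
        · refine ⟨?_, (Commute.refl _).mul_left S.comm.symm, S.comm.mul_left (Commute.refl _)⟩
          exact S.sq12
      refine ⟨S.Φ * u, ?_, by rw [map_mul, e1, mul_one], by rw [map_mul, e2, S.cls_Φ, mul_one],
        S.fix1.mul_left hu2.2.1, S.fix2.mul_left hu2.2.2⟩
      rw [((Commute.refl S.Φ).pow_right f).mul_pow]
      obtain ⟨l, rfl⟩ := h
      rw [← hu, pow_succ, pow_mul, pow_two, hu2.1, one_pow, one_mul, hu2.1]
  -- choose the rotation
  obtain ⟨ρ, hρ2, hρfld, hρcls, hρs⟩ : ∃ ρ, ρ ^ 2 = S.R1 * S.R2 ∧ S.fld ρ = 1 ∧ S.cls ρ = -1 ∧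
      ρ * S.R1 * ρ⁻¹ = S.R2 := by
    have hDD : S.D ^ 2 = 1 ∨ S.D ^ 2 = S.R1 * S.R2 := by
      have hne : S.R1 ≠ S.R2 := fun e => h12 (by rw [← e, S.sq_R1])
      have hfix : S.D * S.D ^ 2 * S.D⁻¹ = S.D ^ 2 := by group
      rcases S.ker (S.D ^ 2) (by rw [map_pow, S.fld_D, one_pow])
          (by rw [map_pow, S.cls_D]; decide) with e | e | e | e
      · exact Or.inl e
      · rw [e, S.swap] at hfix; exact absurd hfix.symm hne
      · rw [e, S.swap'] at hfix; exact absurd hfix hne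
      · exact Or.inr e
    rcases hDD with e | e
    · refine ⟨S.D * S.R1, ?_, by rw [map_mul, S.fld_D, S.fld_R1, mul_one],
        by rw [map_mul, S.cls_D, S.cls_R1, mul_one], ?_⟩
      · have hD : S.D⁻¹ = S.D := inv_eq_of_mul_eq_one_right (by rw [← pow_two]; exact e)
        calc (S.D * S.R1) ^ 2 = S.D * S.R1 * S.D⁻¹ * S.R1 := by rw [hD, pow_two]; group
          _ = S.R2 * S.R1 := by rw [S.swap]
          _ = _ := S.comm.symm.eq
      · calc S.D * S.R1 * S.R1 * (S.D * S.R1)⁻¹ = S.D * (S.R1 * S.R1) * S.R1⁻¹ * S.D⁻¹ := by group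
          _ = S.D * S.R1⁻¹ * S.D⁻¹ := by rw [S.sq_R1, mul_one]
          _ = _ := by rw [inv_eq_of_mul_eq_one_right S.sq_R1, S.swap]
    · exact ⟨S.D, e, S.fld_D, S.cls_D, S.swap⟩
  have hρ4 : ρ ^ 4 = 1 := by
    rw [show 4 = 2 * 2 from rfl, pow_mul, hρ2, pow_two, S.sq12]
  have hsρ : S.R1 * ρ * S.R1 = ρ ^ 3 := by
    have h3 : S.R1 * ρ * S.R1 = S.R1 * S.R2 * ρ := by
      conv_rhs => rw [← hρs]
      group
    rw [h3, ← hρ2, ← pow_succ]
  have hsfld := S.fld_R1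
  -- the commuting field generator
  have hrel : Φ * ρ * Φ⁻¹ = ρ ∨ Φ * ρ * Φ⁻¹ = ρ ^ 3 := by
    have hsq : (Φ * ρ * Φ⁻¹) ^ 2 = ρ ^ 2 := by
      rw [conj_pow, hρ2, (hΦ1.mul_right hΦ2).eq, mul_inv_cancel_right]
    rcases S.ker (Φ * ρ * Φ⁻¹ * ρ⁻¹)
        (by simp [hρfld]) (by simp [hρcls, hΦcls]) with e | e | e | e
    · left; exact mul_inv_eq_one.1 e
    · exfalso
      rw [mul_inv_eq_iff_eq_mul] at e
      rw [e] at hsq
      have : (S.R1 * ρ) ^ 2 = S.R1 * (S.R2 * ρ ^ 2) := by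
        rw [← hρs]; simp only [pow_two]; group
      rw [this, ← mul_assoc, mul_eq_right] at hsq
      exact h12 hsq
    · exfalso
      rw [mul_inv_eq_iff_eq_mul] at e
      rw [e] at hsq
      have h21 : ρ * S.R2 * ρ⁻¹ = S.R1 := by
        have : ρ * (ρ * S.R1 * ρ⁻¹) * ρ⁻¹ = S.R1 := by
          calc ρ * (ρ * S.R1 * ρ⁻¹) * ρ⁻¹ = ρ * ρ * S.R1 * (ρ * ρ)⁻¹ := by group
            _ = _ := by
              rw [← pow_two, hρ2, mul_inv_eq_iff_eq_mul]
              exact ((Commute.refl S.R1).mul_left S.comm.symm).eq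
        rwa [hρs] at this
      have : (S.R2 * ρ) ^ 2 = S.R2 * (S.R1 * ρ ^ 2) := by
        rw [← h21]; simp only [pow_two]; group
      rw [this, ← mul_assoc, mul_eq_right, S.comm.symm.eq] at hsq
      exact h12 hsq
    · right
      rw [mul_inv_eq_iff_eq_mul] at e
      rw [e, ← hρ2, ← pow_succ]
  obtain ⟨Ψ, hΨf, hΨfld, hΨρ, hΨs⟩ : ∃ Ψ, Ψ ^ f = 1 ∧ S.fld Ψ = S.fld S.Φ ∧ Commute Ψ ρ ∧
      Commute Ψ S.R1 := by
    rcases hrel with h | h
    · exact ⟨Φ, hΦf, hΦfld, mul_inv_eq_iff_eq_mul.1 h, hΦ1⟩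
    · have hiter : ∀ k : ℕ, Φ ^ k * ρ * (Φ ^ k)⁻¹ = ρ ^ 3 ^ k := by
        intro k
        induction k with
        | zero => simp
        | succ k ih =>
          calc Φ ^ (k + 1) * ρ * (Φ ^ (k + 1))⁻¹ = Φ * (Φ ^ k * ρ * (Φ ^ k)⁻¹) * Φ⁻¹ := by
                rw [pow_succ']; group
            _ = (Φ * ρ * Φ⁻¹) ^ 3 ^ k := by rw [ih, conj_pow]
            _ = _ := by rw [h, ← pow_mul, pow_succ']
      have hfe : Even f := by
        by_contra hodd
        obtain ⟨l, rfl⟩ := Nat.not_even_iff_odd.1 hodd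
        have h1 := hiter (2 * l + 1)
        rw [hΦf, one_mul, inv_one, mul_one, pow_four_mod hρ4 (3 ^ _), Nat.pow_mod, pow_succ,
          pow_mul] at h1
        simp [Nat.mul_mod, Nat.pow_mod] at h1
        refine h12 ?_
        rw [← hρ2]
        calc ρ ^ 2 = ρ ^ 3 * ρ⁻¹ := by group
          _ = 1 := by rw [← h1, mul_inv_cancel]
      refine ⟨Φ * S.R1, ?_, by rw [map_mul, hΦfld, S.fld_R1, mul_one], ?_,
        hΦ1.mul_left (Commute.refl _)⟩
      · obtain ⟨l, hl⟩ := hfe.two_dvd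
        have key : ∀ n, n = 2 * l → S.R1 ^ n = 1 := fun n hn => by
          rw [hn, pow_mul, pow_two, S.sq_R1, one_pow]
        rw [hΦ1.mul_pow, hΦf, one_mul, key f hl]
      · refine mul_inv_eq_iff_eq_mul.1 ?_
        calc Φ * S.R1 * ρ * (Φ * S.R1)⁻¹ = Φ * (S.R1 * ρ * S.R1⁻¹) * Φ⁻¹ := by group
          _ = Φ * ρ ^ 3 * Φ⁻¹ := by rw [inv_eq_of_mul_eq_one_right S.sq_R1, hsρ]
          _ = (Φ * ρ * Φ⁻¹) ^ 3 := conj_pow.symm
          _ = ρ ^ (4 * 2) * ρ := by rw [h, ← pow_mul, ← pow_succ]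
          _ = ρ := by rw [pow_mul, hρ4, one_pow, one_mul]
  let a := dihedralHom ρ S.R1 hρ4 S.sq_R1 hsρ
  let b := powHom f Ψ hΨf
  refine exists_prod_mulEquiv a b ?_ S.fld ?_ ?_ (S.fld_powHom_injective Ψ hΨf rfl hΨfld) ?_
  · intro x y
    obtain ⟨k, -, hk⟩ := powHom_exists f Ψ hΨf y
    show Commute (a x) (powHom f Ψ hΨf y)
    rw [hk]
    refine Commute.zpow_right ?_ k
    rcases x with i | i
    · exact (hΨρ.pow_right _).symm
    · exact (hΨs.mul_right (hΨρ.pow_right _)).symm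
  · exact dihedralHom_injective ρ S.R1 hρ4 S.sq_R1 hsρ (by rw [hρ2]; exact h12)
  · rintro (i | i) <;> simp [a, dihedralHom_r, dihedralHom_sr, hρfld, S.fld_R1]
  · intro g
    obtain ⟨k, hk⟩ := S.fld_gen g
    have hfb : S.fld (b (Multiplicative.ofAdd (k : ZMod f))) = S.fld g := by
      rw [powHom_int, map_zpow, hΨfld, hk]
    set y := b (Multiplicative.ofAdd (k : ZMod f))
    have hN : ∀ n, (n = 1 ∨ n = S.R1 ∨ n = S.R2 ∨ n = S.R1 * S.R2) → n ∈ a.range := by
      have h1 : S.R1 ∈ a.range := ⟨sr 0, by simp [a, dihedralHom_sr]⟩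
      have h3 : S.R1 * S.R2 ∈ a.range := ⟨r 2, by rw [← hρ2]; rfl⟩
      rintro n (rfl | rfl | rfl | rfl)
      · exact one_mem _
      · exact h1
      · have := mul_mem h1 h3
        rwa [← mul_assoc, S.sq_R1, one_mul] at this
      · exact h3
    have hr : ρ ∈ a.range := ⟨r 1, pow_one ρ⟩
    have h0 : S.fld (g * y⁻¹) = 1 := by rw [map_mul, map_inv, hfb, mul_inv_cancel]
    have hmem : g * y⁻¹ ∈ a.range := by
      rcases Int.units_eq_one_or (S.cls (g * y⁻¹)) with h | h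
      · exact hN _ (S.ker _ h0 h)
      · have := mul_mem (hN _ (S.ker (g * y⁻¹ * ρ⁻¹) (by rw [map_mul, h0, map_inv, hρfld]; simp)
          (by rw [map_mul, h, map_inv, hρcls]; decide))) hr
        rwa [inv_mul_cancel_right] at this
    obtain ⟨x, hx⟩ := hmem
    exact ⟨x, _, by rw [hx]; exact (inv_mul_cancel_right g y).symm⟩

theorem klein_gen {x : G} (h12 : S.R1 = S.R2)
    (h : x = 1 ∨ x = S.R1 ∨ x = S.R2 ∨ x = S.R1 * S.R2) : x = 1 ∨ x = S.R1 := by
  rcases h with rfl | rfl | rfl | rfl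
  · exact Or.inl rfl
  · exact Or.inr rfl
  · exact Or.inr h12.symm
  · left; rw [← h12, S.sq_R1]

/-- The abelian case with split field part. -/
theorem abelian_split (h12 : S.R1 = S.R2) (hne : S.R1 ≠ 1) (hD : S.D * S.D = 1)
    (hDΦ : Commute S.D S.Φ) (hf : S.Φ ^ f = 1) :
    Nonempty (G ≃* Multiplicative (ZMod 2 × ZMod 2 × ZMod f)) := by
  have hR : S.R1 ^ 2 = 1 := by rw [pow_two, S.sq_R1]
  have hD' : S.D ^ 2 = 1 := by rw [pow_two, hD]
  have hRD : Commute S.R1 S.D := by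
    have := mul_inv_eq_iff_eq_mul.1 S.swap
    rw [← h12] at this
    exact this.symm
  let c := (powHom 2 S.R1 hR).noncommCoprod (powHom 2 S.D hD') fun x y => by
    obtain ⟨i, -, hi⟩ := powHom_exists 2 S.R1 hR x
    obtain ⟨j, -, hj⟩ := powHom_exists 2 S.D hD' y
    rw [hi, hj]
    exact hRD.zpow_zpow i j
  have hfc : ∀ x, S.fld (c x) = 1 := by
    rintro ⟨x, y⟩
    obtain ⟨i, -, hi⟩ := powHom_exists 2 S.R1 hR x
    obtain ⟨j, -, hj⟩ := powHom_exists 2 S.D hD' y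
    simp [c, hi, hj, S.fld_R1, S.fld_D]
  obtain ⟨E⟩ : Nonempty (G ≃* (Multiplicative (ZMod 2) × Multiplicative (ZMod 2)) ×
      Multiplicative (ZMod f)) := by
    refine exists_prod_mulEquiv c (powHom f S.Φ hf) ?_ S.fld ?_ hfc
      (S.fld_powHom_injective S.Φ hf rfl rfl) ?_
    · rintro ⟨x, y⟩ z
      obtain ⟨i, -, hi⟩ := powHom_exists 2 S.R1 hR x
      obtain ⟨j, -, hj⟩ := powHom_exists 2 S.D hD' y
      obtain ⟨k, -, hk⟩ := powHom_exists f S.Φ hf z
      simp only [c, MonoidHom.noncommCoprod_apply, hi, hj, hk]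
      exact (S.fix1.symm.zpow_zpow i k).mul_left (hDΦ.zpow_zpow j k)
    · rw [injective_iff_map_eq_one]
      rintro ⟨x, y⟩ hxy
      rw [MonoidHom.noncommCoprod_apply] at hxy
      obtain ⟨i, rfl, hi⟩ := powHom_exists 2 S.R1 hR x
      obtain ⟨j, rfl, hj⟩ := powHom_exists 2 S.D hD' y
      rw [hi, hj] at hxy
      have hc := congrArg S.cls hxy
      rw [map_mul, map_zpow, map_zpow, S.cls_R1, S.cls_D, one_zpow, one_mul, map_one] at hc
      have hj0 : (j : ZMod 2) = 0 := by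
        rw [← orderOf_dvd_iff_zpow_eq_one] at hc
        have : orderOf (-1 : ℤˣ) = 2 := orderOf_eq_prime (by decide) (by decide)
        rw [this] at hc
        rwa [ZMod.intCast_zmod_eq_zero_iff_dvd]
      have hj1 : S.D ^ j = 1 := by
        rw [← powHom_int 2 S.D hD', hj0, ofAdd_zero, map_one]
      rw [hj1, mul_one, ← orderOf_dvd_iff_zpow_eq_one, orderOf_eq_prime hR hne,
        ← ZMod.intCast_zmod_eq_zero_iff_dvd] at hxy
      simp [hxy, hj0]
    · intro g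
      obtain ⟨e, k, n, hn, rfl⟩ := S.decomp g
      have hn' : n ∈ c.range := by
        rcases S.klein_gen h12 hn with rfl | rfl
        · exact one_mem _
        · exact ⟨(Multiplicative.ofAdd 1, 1), by simp [c, powHom_one]⟩
      have hD0 : S.D ∈ c.range := ⟨(1, Multiplicative.ofAdd 1), by simp [c, powHom_one]⟩
      obtain ⟨x, hx⟩ := mul_mem hn' (pow_mem hD0 e)
      exact ⟨x, Multiplicative.ofAdd (k : ZMod f), by rw [hx, powHom_int]⟩
  exact ⟨E.trans ((MulEquiv.prodAssoc).trans ((MulEquiv.prodCongr (MulEquiv.refl _)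
    (MulEquiv.prodMultiplicative (G := ZMod 2) (H := ZMod f)).symm).trans
      (MulEquiv.prodMultiplicative (G := ZMod 2) (H := ZMod 2 × ZMod f)).symm))⟩

/-- The abelian case where the field generator squares into the kernel. -/
theorem abelian_nonsplit (hf0 : 1 ≤ f) (h12 : S.R1 = S.R2) (hne : S.R1 ≠ 1) (hD : S.D * S.D = 1)
    (hDΦ : Commute S.D S.Φ) (hf : S.Φ ^ f = S.R1) :
    Nonempty (G ≃* Multiplicative (ZMod 2 × ZMod (2 * f))) := by
  have hD' : S.D ^ 2 = 1 := by rw [pow_two, hD]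
  have hΦ : S.Φ ^ (2 * f) = 1 := by rw [mul_comm, pow_mul, hf, pow_two, S.sq_R1]
  have hord : orderOf S.Φ = 2 * f := by
    have h1 : f ∣ orderOf S.Φ := (dvd_of_eq S.ord_fld.symm).trans (orderOf_map_dvd S.fld S.Φ)
    have h2 := orderOf_dvd_of_pow_eq_one hΦ
    obtain ⟨t, ht⟩ := h1
    rw [ht, mul_comm 2 f] at h2
    rcases (Nat.dvd_prime Nat.prime_two).1 ((Nat.mul_dvd_mul_iff_left (by omega)).1 h2) with rfl | rfl
    · exfalso
      rw [mul_one] at ht
      exact hne (hf.symm.trans (orderOf_dvd_iff_pow_eq_one.1 (dvd_of_eq ht)))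
    · rw [ht, mul_comm]
  obtain ⟨E⟩ : Nonempty (G ≃* Multiplicative (ZMod (2 * f)) × Multiplicative (ZMod 2)) := by
    refine exists_prod_mulEquiv (powHom (2 * f) S.Φ hΦ) (powHom 2 S.D hD') ?_ S.cls
      (powHom_injective _ _ hΦ hord) ?_ ?_ ?_
    · intro x y
      obtain ⟨i, -, hi⟩ := powHom_exists _ S.Φ hΦ x
      obtain ⟨j, -, hj⟩ := powHom_exists 2 S.D hD' y
      rw [hi, hj]
      exact hDΦ.symm.zpow_zpow i j
    · intro x
      obtain ⟨i, -, hi⟩ := powHom_exists _ S.Φ hΦ x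
      rw [hi, map_zpow, S.cls_Φ, one_zpow]
    · rw [injective_iff_map_eq_one]
      intro x hx
      obtain ⟨j, rfl, hj⟩ := powHom_exists 2 S.D hD' x
      rw [MonoidHom.comp_apply, hj, map_zpow, S.cls_D, ← orderOf_dvd_iff_zpow_eq_one,
        orderOf_eq_prime (p := 2) (by decide) (by decide), ← ZMod.intCast_zmod_eq_zero_iff_dvd] at hx
      rw [hx, ofAdd_zero]
    · intro g
      obtain ⟨e, k, n, hn, rfl⟩ := S.decomp g
      obtain ⟨i, hi⟩ : ∃ i : ℤ, n = S.Φ ^ i := by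
        rcases S.klein_gen h12 hn with rfl | rfl
        · exact ⟨0, (zpow_zero _).symm⟩
        · exact ⟨f, by rw [zpow_natCast, hf]⟩
      refine ⟨Multiplicative.ofAdd ((i + k : ℤ) : ZMod (2 * f)),
        Multiplicative.ofAdd ((e : ℤ) : ZMod 2), ?_⟩
      rw [powHom_int, powHom_int, hi, zpow_natCast, zpow_add, mul_assoc, mul_assoc,
        ((hDΦ.pow_left e).zpow_right k).eq]
  exact ⟨E.trans (MulEquiv.prodComm.trans
    (MulEquiv.prodMultiplicative (G := ZMod 2) (H := ZMod (2 * f))).symm)⟩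

end Skeleton

end CfsgLib.OutPOmega
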