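import Cfsg.Agent.OutPOmega.Semisim
import Cfsg.Agent.OutPOmega.Shapes
import Cfsg.Agent.Forms.OrthDet
import Cfsg.Agent.AutPSL.FieldAut
import Cfsg.Agent.AutPSL.Involution

/-!
# Invariants of semisimilarities and the outer automorphism group of `PΩ`
-/

set_option autoImplicit false
set_option linter.unusedSectionVars false

namespace CfsgLib.OutPOmega

open Matrix Module CfsgLib.Spinor CfsgLib.Forms CfsgLib.Forms4

variable {F : Type*} [Field F] [Fintype F] {ι : Type} [Fintype ι] [DecidableEq ι]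
variable {Q : QuadraticForm F (ι → F)}

/-- The field part. -/
def fldHom (Q : (ι → F) → F) : ↥(semi Q) →* (F ≃+* F) :=
  SemidirectProduct.rightHom.comp (semi Q).subtype

theorem exists_anis (P : TwoPairs Q) : Q (P.e + P.f) = 1 := by
  rw [QuadraticMap.map_add (⇑Q), P.qe, P.qf, P.ef, zero_add, zero_add]

/-- The multiplier. -/
noncomputable def mult (x : ↥(semi ⇑Q)) : Fˣ := (mem_semi_quad.1 x.2).choose

theorem mult_spec (x : ↥(semi ⇑Q)) (v : ι → F) : Q (act x.1 v) = (mult x : F) * x.1.right (Q v) :=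
  (mem_semi_quad.1 x.2).choose_spec v

theorem mult_eq (P : TwoPairs Q) {x : ↥(semi ⇑Q)} {c : Fˣ}
    (h : ∀ v, Q (act x.1 v) = (c : F) * x.1.right (Q v)) : mult x = c := by
  have h1 := (mult_spec x (P.e + P.f)).symm.trans (h _)
  rw [exists_anis P, map_one, mul_one, mul_one] at h1
  exact Units.ext h1

theorem mult_mul (P : TwoPairs Q) (x y : ↥(semi ⇑Q)) :
    mult (x * y) = mult x * Units.map (x.1.right : F →* F) (mult y) := by
  refine mult_eq P fun v => ?_
  rw [Subgroup.coe_mul, act_mul, mult_spec, mult_spec, map_mul, Units.val_mul, mul_assoc]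
  rfl

theorem mult_isoEmb (P : TwoPairs Q) (h : ↥(Cfsg.isometryGroup F ⇑Q)) :
    mult (isoEmb ⇑Q h) = 1 := by
  refine mult_eq P fun v => ?_
  show Q (act (SemidirectProduct.inl h.1) v) = _ * (1 : F ≃+* F) (Q v)
  rw [act_inl, Units.val_one, one_mul]
  exact h.2 v v

theorem mult_scalarEmb (P : TwoPairs Q) (t : Fˣ) : mult (scalarEmb Q t) = t * t := by
  refine mult_eq P fun v => ?_
  show Q (act (SemidirectProduct.inl _) v) = _ * (1 : F ≃+* F) (Q v)
  rw [act_scalar, QuadraticMap.map_smul, smul_eq_mul, Units.val_mul]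
  rfl

theorem mult_one (P : TwoPairs Q) : mult (1 : ↥(semi ⇑Q)) = 1 := by
  rw [← map_one (isoEmb ⇑Q), mult_isoEmb P]

/-- The determinant of the linear part. -/
def sdet (x : ↥(semi ⇑Q)) : F := x.1.left.1.det

theorem sdet_mul (x y : ↥(semi ⇑Q)) : sdet (x * y) = sdet x * x.1.right (sdet y) := by
  show (x.1.left.1 * y.1.left.1.map x.1.right).det = _
  rw [det_mul]
  exact congrArg _ (x.1.right.toRingHom.map_det _).symm

theorem sdet_isoEmb (h : ↥(Cfsg.isometryGroup F ⇑Q)) : sdet (isoEmb ⇑Q h) = (mat Q h).det := rfl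

theorem sdet_scalarEmb (t : Fˣ) : sdet (scalarEmb Q t) = (t : F) ^ Fintype.card ι := by
  show (Matrix.GeneralLinearGroup.scalar ι t).1.det = _
  simp [Matrix.GeneralLinearGroup.scalar, Matrix.det_diagonal]

theorem sdet_sq (hQ : (QuadraticMap.polarBilin Q).Nondegenerate) {x : ↥(semi ⇑Q)}
    (hx : fldHom ⇑Q x = 1) : sdet x * sdet x = (mult x : F) ^ Fintype.card ι := by
  have hpol : ∀ u v, QuadraticMap.polar (⇑Q) (x.1.left.1 *ᵥ u) (x.1.left.1 *ᵥ v) =
      (mult x : F) * QuadraticMap.polar (⇑Q) u v := by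
    have hr : x.1.right = 1 := hx
    have h : ∀ w, Q (x.1.left.1 *ᵥ w) = (mult x : F) * Q w := fun w => by
      have := mult_spec x w
      rw [hr] at this
      simpa [act, hr] using this
    intro u v
    simp only [QuadraticMap.polar, ← mulVec_add, h]
    ring
  obtain ⟨B, hB⟩ : ∃ B, B = LinearMap.toMatrix₂' F (QuadraticMap.polarBilin Q) := ⟨_, rfl⟩
  have hd : B.det ≠ 0 := by
    rw [hB]
    exact ((LinearMap.nondegenerate_iff_det_ne_zero (Pi.basisFun F ι)).1 hQ)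
  have h : (x.1.left.1)ᵀ * B * x.1.left.1 = (mult x : F) • B := by
    conv_rhs => rw [hB, ← map_smul, show (mult x : F) • QuadraticMap.polarBilin Q =
      (QuadraticMap.polarBilin Q).compl₁₂ (Matrix.toLin' x.1.left.1) (Matrix.toLin' x.1.left.1) from
      LinearMap.ext₂ fun u v => (hpol u v).symm]
    rw [LinearMap.toMatrix₂'_compl₁₂, LinearMap.toMatrix'_toLin', ← hB]
  have h' := congrArg Matrix.det h
  rw [det_mul, det_mul, det_transpose, det_smul] at h'
  exact mul_left_cancel₀ hd (by unfold sdet; linear_combination h')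

theorem semi_mulVec_polar (x : ↥(semi ⇑Q)) (u v : ι → F) :
    QuadraticMap.polar (⇑Q) (act x.1 u) (act x.1 v) =
      (mult x : F) * x.1.right (QuadraticMap.polar (⇑Q) u v) := by
  simp only [QuadraticMap.polar, ← act_add, mult_spec, map_sub]
  ring

theorem quad_act_ne_zero (x : ↥(semi ⇑Q)) {v : ι → F} (hv : Q v ≠ 0) : Q (act x.1 v) ≠ 0 := by
  rw [mult_spec]
  exact mul_ne_zero (Units.ne_zero _) ((map_ne_zero_iff _ x.1.right.injective).2 hv)

theorem conjIso_reflIso (x : ↥(semi ⇑Q)) (v : ι → F) (hv : Q v ≠ 0) :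
    conjIso ⇑Q x (reflIso Q v hv) = reflIso Q (act x.1 v) (quad_act_ne_zero x hv) := by
  refine Subtype.ext (Units.ext (Matrix.ext_iff_mulVec.2 fun w => ?_))
  rw [← act_inl, ← act_inl]
  show act (SemidirectProduct.inl (conjLin x.1 (reflIso Q v hv).1)) w = _
  rw [inl_conjLin, act_mul, act_mul, act_inl, act_inl, reflIso_coe, reflIso_coe,
    reflectionMatrix_mulVec, reflectionMatrix_mulVec, refl_apply, act_sub, act_smul]
  conv_rhs => rw [← act_act_inv x.1 w, refl_apply, semi_mulVec_polar, mult_spec]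
  congr 2
  rw [map_mul, map_inv₀, mul_inv]
  field_simp [Units.ne_zero (mult x)]

/-- The isometry `-1`. -/
def negIso (Q : QuadraticForm F (ι → F)) : ↥(Cfsg.isometryGroup F ⇑Q) :=
  ⟨Matrix.GeneralLinearGroup.scalar ι (-1 : Fˣ), fun v _ => by
    show Q ((Matrix.GeneralLinearGroup.scalar ι (-1 : Fˣ)).1 *ᵥ v) = Q v
    rw [show (Matrix.GeneralLinearGroup.scalar ι (-1 : Fˣ)).1 *ᵥ v = -v from by
      simp [Matrix.GeneralLinearGroup.scalar, Matrix.neg_mulVec],
      QuadraticMap.map_neg]⟩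

theorem isoEmb_negIso : isoEmb ⇑Q (negIso Q) = scalarEmb Q (-1) := rfl

theorem det_negIso : (mat Q (negIso Q)).det = (-1) ^ Fintype.card ι := by
  show (Matrix.GeneralLinearGroup.scalar ι (-1 : Fˣ)).1.det = _
  simp [Matrix.GeneralLinearGroup.scalar, Matrix.det_neg]

theorem exists_iso_of_mult (P : TwoPairs Q) {x : ↥(semi ⇑Q)} (hx : fldHom ⇑Q x = 1) {t : Fˣ}
    (ht : mult x = t * t) : ∃ h, x = scalarEmb Q t * isoEmb ⇑Q h := by
  set y := (scalarEmb Q t)⁻¹ * x with hy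
  have hy1 : fldHom ⇑Q y = 1 := by
    rw [map_mul, map_inv, hx, show fldHom ⇑Q (scalarEmb Q t) = 1 from rfl, inv_one, one_mul]
  have hym : mult y = 1 := by
    have h := mult_mul P (scalarEmb Q t) y
    rw [hy, mul_inv_cancel_left, mult_scalarEmb P, ht] at h
    have h2 : Units.map ((1 : F ≃+* F) : F →* F) (mult y) = 1 := mul_eq_left.1 h.symm
    exact Units.ext (congrArg Units.val h2)
  have hr : y.1.right = 1 := hy1
  have hmem : y.1.left ∈ Cfsg.isometryGroup F ⇑Q := fun v _ => by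
    show Q (y.1.left.1 *ᵥ v) = Q v
    have := mult_spec y v
    rw [hym, Units.val_one, one_mul] at this
    simpa [act, hr] using this
  refine ⟨⟨y.1.left, hmem⟩, ?_⟩
  have : isoEmb ⇑Q ⟨y.1.left, hmem⟩ = y := Subtype.ext (SemidirectProduct.ext rfl hr.symm)
  rw [this, hy, mul_inv_cancel_left]

section Frobenius

variable {p f : ℕ} [Fact p.Prime] (hF : Fintype.card F = p ^ f) (hf : 1 ≤ f)

include hF in
theorem charP_of_card : CharP F p := by
  obtain ⟨p', hp'⟩ := CharP.exists F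
  obtain ⟨a, hp'', hc⟩ := FiniteField.card F p'
  rw [hF] at hc
  have hf0 : f ≠ 0 := fun h => by
    rw [h, pow_zero] at hc
    exact (one_lt_pow₀ hp''.one_lt a.pos.ne').ne hc
  have h1 : p ∣ p' ^ (a : ℕ) := hc ▸ dvd_pow_self p hf0
  rwa [← (Nat.prime_dvd_prime_iff_eq (Fact.out : p.Prime) hp'').1
    ((Fact.out : p.Prime).dvd_of_dvd_pow h1)] at hp'

include hF hf in
/-- The Frobenius automorphism generates the Galois group. -/
theorem exists_frob : ∃ σ : F ≃+* F, (∀ x, σ x = x ^ p) ∧ orderOf σ = f ∧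
    ∀ τ : F ≃+* F, ∃ k : ℤ, τ = σ ^ k := by
  classical
  haveI := charP_of_card hF
  refine ⟨frobeniusEquiv F p, fun x => by rw [frobeniusEquiv_apply, frobenius_def], ?_⟩
  set σ := frobeniusEquiv F p
  have hpow : ∀ (j : ℕ) (x : F), (σ ^ j) x = x ^ p ^ j := by
    intro j
    induction j with
    | zero => intro x; simp
    | succ j ih =>
      intro x
      rw [pow_succ', RingAut.mul_apply, ih, frobeniusEquiv_apply, frobenius_def, ← pow_mul,
        pow_succ]
  haveI : Finite (F ≃+* F) := Finite.of_injective (fun σ : F ≃+* F => (σ : F → F))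
    DFunLike.coe_injective
  have hcard := CfsgLib.AutPSL.card_ringEquiv (F := F) hF hf
  have hord : orderOf σ = f := by
    have hd : orderOf σ ∣ f := hcard ▸ orderOf_dvd_natCard σ
    refine le_antisymm (Nat.le_of_dvd hf hd) ?_
    have hj : 0 < orderOf σ := orderOf_pos σ
    obtain ⟨g, hg⟩ := IsCyclic.exists_generator (α := Fˣ)
    have hgo : orderOf g = p ^ f - 1 := by
      rw [orderOf_eq_card_of_forall_mem_zpowers hg, Nat.card_units, Nat.card_eq_fintype_card, hF]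
    have h1 : (g : F) ^ p ^ orderOf σ = g := by rw [← hpow, pow_orderOf_eq_one]; rfl
    have hp1 : 1 < p ^ orderOf σ := Nat.one_lt_pow hj.ne' (Fact.out : p.Prime).one_lt
    have h2 : g ^ (p ^ orderOf σ - 1) = 1 := by
      refine mul_left_cancel (a := g) ?_
      rw [← pow_succ', mul_one, Nat.sub_add_cancel hp1.le]
      exact Units.ext (by rw [Units.val_pow_eq_pow_val, h1])
    have h3 := Nat.le_of_dvd (by omega) (hgo ▸ orderOf_dvd_of_pow_eq_one h2)
    have h4 : p ^ f ≤ p ^ orderOf σ := by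
      have : 1 ≤ p ^ f := Nat.one_le_pow _ _ (Fact.out : p.Prime).pos
      omega
    exact (Nat.pow_le_pow_iff_right (Fact.out : p.Prime).one_lt).1 h4
  refine ⟨hord, fun τ => ?_⟩
  have htop : Subgroup.zpowers σ = ⊤ := Subgroup.eq_top_of_card_eq _ (by
    rw [Nat.card_zpowers, hord, hcard])
  obtain ⟨k, hk⟩ := Subgroup.mem_zpowers_iff.1 (htop ▸ Subgroup.mem_top τ : τ ∈ Subgroup.zpowers σ)
  exact ⟨k, hk.symm⟩

end Frobenius

section Descend

variable (hQ : (QuadraticMap.polarBilin Q).Nondegenerate) (hn : 5 ≤ Fintype.card ι)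
  (P : TwoPairs Q) (hsurj : Function.Surjective (outHom ⇑Q))

include hQ hn P in
theorem fldHom_eq_one_of_out {x : ↥(semi ⇑Q)} (hx : outHom ⇑Q x = 1) : fldHom ⇑Q x = 1 := by
  obtain ⟨t, s, rfl⟩ := (outHom_eq_one_iff hQ hn P x).1 hx
  rw [map_mul]
  exact one_mul 1

/-- The field part on `Out(PΩ)`. -/
noncomputable def fldOut : Cfsg.Out (Cfsg.POmega F ⇑Q) →* (F ≃+* F) :=
  (outHom ⇑Q).liftOfSurjective hsurj
    ⟨fldHom ⇑Q, fun _ hx => fldHom_eq_one_of_out hQ hn P hx⟩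

theorem fldOut_outHom (x : ↥(semi ⇑Q)) : fldOut hQ hn P hsurj (outHom ⇑Q x) = fldHom ⇑Q x :=
  (outHom ⇑Q).liftOfRightInverse_comp_apply _ (Function.rightInverse_surjInv hsurj) _ x

include hQ hn P in
theorem isoCls_eq_one_iff (h : ↥(Cfsg.isometryGroup F ⇑Q)) :
    outHom ⇑Q (isoEmb ⇑Q h) = 1 ↔
      h ∈ Cfsg.Omega F ⇑Q ∨ negIso Q * h ∈ Cfsg.Omega F ⇑Q := by
  rw [outHom_eq_one_iff hQ hn P]
  constructor
  · rintro ⟨t, s, hts⟩
    have h1 : t * t = 1 := by
      have := congrArg mult hts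
      rw [mult_isoEmb P, mult_mul P, mult_scalarEmb P, mult_isoEmb P, map_one, mul_one] at this
      exact this.symm
    have h1' : (t : F) * t = 1 := by rw [← Units.val_mul, h1, Units.val_one]
    rcases mul_self_eq_one_iff.1 h1' with e | e
    · left
      rw [show t = 1 from Units.ext e, map_one, one_mul] at hts
      exact isoEmb_injective _ hts ▸ s.2
    · right
      rw [show t = -1 from Units.ext (by rw [e, Units.val_neg, Units.val_one]), ← isoEmb_negIso,
        ← map_mul] at hts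
      have hnn : negIso Q * negIso Q = 1 := isoEmb_injective _ (by
        rw [map_mul, map_one, isoEmb_negIso, ← map_mul, neg_mul_neg, one_mul, map_one])
      rw [isoEmb_injective _ hts, ← mul_assoc, hnn, one_mul]
      exact s.2
  · rintro (h1 | h1)
    · exact ⟨1, ⟨h, h1⟩, by rw [map_one, one_mul]⟩
    · refine ⟨-1, ⟨_, h1⟩, ?_⟩
      rw [map_mul, isoEmb_negIso, ← mul_assoc, ← map_mul, neg_mul_neg, one_mul, map_one, one_mul]

include hQ hn P in
theorem isoCls_eq_of {h h' : ↥(Cfsg.isometryGroup F ⇑Q)} (e : h⁻¹ * h' ∈ Cfsg.Omega F ⇑Q) :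
    outHom ⇑Q (isoEmb ⇑Q h) = outHom ⇑Q (isoEmb ⇑Q h') := by
  rw [← inv_mul_eq_one, ← map_inv, ← map_mul, ← map_inv, ← map_mul]
  exact (isoCls_eq_one_iff hQ hn P _).2 (Or.inl e)

theorem isoCls_conj (x : ↥(semi ⇑Q)) (h : ↥(Cfsg.isometryGroup F ⇑Q)) :
    outHom ⇑Q x * outHom ⇑Q (isoEmb ⇑Q h) * (outHom ⇑Q x)⁻¹ =
      outHom ⇑Q (isoEmb ⇑Q (conjIso ⇑Q x h)) := by
  rw [isoEmb_conjIso, map_mul, map_mul, map_inv]

end Descend

section OddChar

variable [DecidableEq F]

theorem chi_map (σ : F ≃+* F) (a : F) : quadraticChar F (σ a) = quadraticChar F a := by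
  by_cases ha : a = 0
  · rw [ha, map_zero]
  have ha' : σ a ≠ 0 := (map_ne_zero_iff _ σ.injective).2 ha
  by_cases hs : IsSquare a
  · rw [(quadraticChar_one_iff_isSquare ha).2 hs,
      (quadraticChar_one_iff_isSquare ha').2 (hs.map σ)]
  · rw [quadraticChar_neg_one_iff_not_isSquare.2 hs,
      quadraticChar_neg_one_iff_not_isSquare.2 fun h => hs (by simpa using h.map σ.symm)]

/-- Whether the multiplier is a square. -/
noncomputable def sqHom (P : TwoPairs Q) : ↥(semi ⇑Q) →* ℤˣ :=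
  MonoidHom.mk' (fun x => (quadraticChar F).toUnitHom (mult x)) fun x y => by
    rw [mult_mul P, map_mul]
    congr 1
    ext
    rw [MulChar.coe_toUnitHom, MulChar.coe_toUnitHom]
    exact chi_map x.1.right _

theorem sqHom_coe (P : TwoPairs Q) (x : ↥(semi ⇑Q)) :
    (sqHom P x : ℤ) = quadraticChar F (mult x : F) :=
  MulChar.coe_toUnitHom _ _

theorem exists_sqrt_of_sqHom {P : TwoPairs Q} {x : ↥(semi ⇑Q)} (h : sqHom P x = 1) :
    ∃ t : Fˣ, mult x = t * t := by
  have h1 := sqHom_coe P x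
  rw [h, Units.val_one, eq_comm, quadraticChar_one_iff_isSquare (Units.ne_zero _)] at h1
  obtain ⟨r, hr⟩ := h1
  refine ⟨Units.mk0 r (fun h0 => Units.ne_zero (mult x) (by rw [hr, h0, mul_zero])), Units.ext ?_⟩
  exact hr

variable (h2 : (2 : F) ≠ 0) (hQ : (QuadraticMap.polarBilin Q).Nondegenerate)
  (hn : 5 ≤ Fintype.card ι) (P : TwoPairs Q)

/-- Parity and spinor norm. -/
noncomputable def pq : ↥(Cfsg.isometryGroup F ⇑Q) →* ℤˣ × ℤˣ :=
  (parityHom hQ (exists_isReflProd h2 hQ)).prod (spinHom hQ (exists_isReflProd h2 hQ))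

theorem pq_eq_one_iff (h : ↥(Cfsg.isometryGroup F ⇑Q)) :
    pq h2 hQ h = 1 ↔ h ∈ Cfsg.Omega F ⇑Q := by
  rw [omega_eq_ker hQ (exists_isReflProd h2 hQ) h2, MonoidHom.mem_ker]
  rfl

theorem pq_reflIso (v : ι → F) (hv : Q v ≠ 0) (e : ℤˣ) (he : quadraticChar F (Q v) = (e : ℤ)) :
    pq h2 hQ (reflIso Q v hv) = (-1, e) :=
  Prod.ext (parityHom_reflIso hQ _ v hv) (Units.ext ((spinHom_reflIso hQ _ v hv).trans he))

theorem parity_eq_det (h : ↥(Cfsg.isometryGroup F ⇑Q)) :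
    (mat Q h).det = ((((pq h2 hQ h).1 : ℤˣ) : ℤ) : F) := by
  obtain ⟨vs, hvs⟩ := exists_isReflProd h2 hQ h
  show _ = (((parityHom hQ _ h : ℤˣ) : ℤ) : F)
  rw [det_isReflProd hvs, parityHom_eq hQ _ hvs]
  simp

theorem parity_one_iff (h : ↥(Cfsg.isometryGroup F ⇑Q)) :
    (pq h2 hQ h).1 = 1 ↔ (mat Q h).det = 1 := by
  rw [parity_eq_det h2 hQ h]
  rcases Int.units_eq_one_or (pq h2 hQ h).1 with e | e <;> rw [e] <;> simp
  · exact fun h' => h2 (by linear_combination -h')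

include h2 hQ hn P in
theorem isoCls_eq_of_pq {h h' : ↥(Cfsg.isometryGroup F ⇑Q)} (e : pq h2 hQ h = pq h2 hQ h') :
    outHom ⇑Q (isoEmb ⇑Q h) = outHom ⇑Q (isoEmb ⇑Q h') :=
  isoCls_eq_of hQ hn P ((pq_eq_one_iff h2 hQ _).1 (by rw [map_mul, map_inv, e, inv_mul_cancel]))

theorem isoCls_ne_one_of_pq {h : ↥(Cfsg.isometryGroup F ⇑Q)} (hn : 5 ≤ Fintype.card ι)
    (P : TwoPairs Q) (h1 : pq h2 hQ h ≠ 1) (h2' : pq h2 hQ (negIso Q) * pq h2 hQ h ≠ 1) :
    outHom ⇑Q (isoEmb ⇑Q h) ≠ 1 := by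
  rw [Ne, isoCls_eq_one_iff hQ hn P, ← pq_eq_one_iff h2 hQ, ← pq_eq_one_iff h2 hQ, map_mul]
  tauto

variable (hsurj : Function.Surjective (outHom ⇑Q))

/-- The multiplier class on `Out(PΩ)`. -/
noncomputable def sqOut : Cfsg.Out (Cfsg.POmega F ⇑Q) →* ℤˣ :=
  (outHom ⇑Q).liftOfSurjective hsurj ⟨sqHom P, fun x hx => by
    obtain ⟨t, s, rfl⟩ := (outHom_eq_one_iff hQ hn P x).1 hx
    rw [MonoidHom.mem_ker, map_mul]
    have h1 : sqHom P (scalarEmb Q t) = 1 := by
      ext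
      rw [sqHom_coe, mult_scalarEmb P, Units.val_mul, map_mul, ← pow_two,
        quadraticChar_sq_one (Units.ne_zero t), Units.val_one]
    have h2 : sqHom P (isoEmb ⇑Q s.1) = 1 := by
      ext
      rw [sqHom_coe, mult_isoEmb P, Units.val_one, map_one, Units.val_one]
    rw [h1, h2, one_mul]⟩

theorem sqOut_outHom (x : ↥(semi ⇑Q)) :
    sqOut hQ hn P hsurj (outHom ⇑Q x) = sqHom P x :=
  (outHom ⇑Q).liftOfRightInverse_comp_apply _ (Function.rightInverse_surjInv hsurj) _ x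

theorem sqHom_isoEmb (h : ↥(Cfsg.isometryGroup F ⇑Q)) : sqHom P (isoEmb ⇑Q h) = 1 := by
  ext
  rw [sqHom_coe, mult_isoEmb P, Units.val_one, map_one, Units.val_one]

theorem conjIso_refl_pq (x : ↥(semi ⇑Q)) (v : ι → F) (hv : Q v ≠ 0) :
    pq h2 hQ (conjIso ⇑Q x (reflIso Q v hv)) =
      (-1, sqHom P x * (spinHom hQ (exists_isReflProd h2 hQ) (reflIso Q v hv))) := by
  rw [conjIso_reflIso]
  refine pq_reflIso h2 hQ _ _ _ ?_
  rw [Units.val_mul, sqHom_coe, spinHom_reflIso, mult_spec, map_mul, chi_map]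

include h2 hQ hn in
/-- The kernel of field part and multiplier class consists of isometries. -/
theorem exists_isoCls {x : ↥(semi ⇑Q)} (hf : fldHom ⇑Q x = 1) (hs : sqHom P x = 1) :
    ∃ h, outHom ⇑Q x = outHom ⇑Q (isoEmb ⇑Q h) := by
  obtain ⟨t, ht⟩ := exists_sqrt_of_sqHom hs
  obtain ⟨h, hh⟩ := exists_iso_of_mult P hf ht
  refine ⟨h, ?_⟩
  rw [hh, map_mul, (outHom_eq_one_iff hQ hn P _).2 ⟨t, 1, by rw [OneMemClass.coe_one, map_one, mul_one]⟩,
    one_mul]

end OddChar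

end CfsgLib.OutPOmega
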