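import Cfsg.Agent.OutPOmega.Basic

/-!
# `Out(PΩ(Q))` in odd characteristic
-/

set_option autoImplicit false
set_option linter.unusedSectionVars false

namespace CfsgLib.OutPOmega

open Matrix Module CfsgLib.Spinor CfsgLib.Forms CfsgLib.Forms4

variable {F : Type*} [Field F] [Fintype F] [DecidableEq F]
  {ι : Type} [Fintype ι] [DecidableEq ι] {Q : QuadraticForm F (ι → F)}
  (h2 : (2 : F) ≠ 0) (hQ : (QuadraticMap.polarBilin Q).Nondegenerate)
  (hn : 5 ≤ Fintype.card ι) (P : TwoPairs Q) (hsurj : Function.Surjective (outHom ⇑Q))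

/-- The common input of the structure theorems. -/
structure FieldGen (P : TwoPairs Q) (f : ℕ) where
  /-- Frobenius -/
  φ : ↥(semi ⇑Q)
  mult_one : mult φ = 1
  ord : orderOf (fldHom ⇑Q φ) = f
  gen : ∀ τ : F ≃+* F, ∃ k : ℤ, τ = fldHom ⇑Q φ ^ k

theorem FieldGen.sqHom_eq {f : ℕ} (Φ : FieldGen P f) : sqHom P Φ.φ = 1 := by
  ext; rw [sqHom_coe, Φ.mult_one, Units.val_one, map_one, Units.val_one]

theorem FieldGen.fld_pow {f : ℕ} (Φ : FieldGen P f) : fldHom ⇑Q (Φ.φ ^ f) = 1 := by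
  rw [map_pow]
  exact orderOf_dvd_iff_pow_eq_one.1 (dvd_of_eq Φ.ord)

theorem mult_pow_of_one (P : TwoPairs Q) {x : ↥(semi ⇑Q)} (hx : mult x = 1) (k : ℕ) :
    mult (x ^ k) = 1 := by
  induction k with
  | zero => rw [pow_zero, OutPOmega.mult_one P]
  | succ k ih => rw [pow_succ, mult_mul P, ih, hx, map_one, mul_one]

include h2 hQ hn in
theorem exists_refls : ∃ (v w : ι → F) (hv : Q v ≠ 0) (hw : Q w ≠ 0),
    pq h2 hQ (reflIso Q v hv) = (-1, 1) ∧ pq h2 hQ (reflIso Q w hw) = (-1, -1) := by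
  have hchar : ringChar F ≠ 2 := fun h => h2 (by
    have := ringChar.eq_iff.1 h
    exact CharTwo.two_eq_zero)
  obtain ⟨α, hα⟩ := FiniteField.exists_nonsquare hchar
  have hα0 : α ≠ 0 := fun h => hα (h ▸ ⟨0, by simp⟩)
  obtain ⟨v, hv⟩ := exists_value h2 hQ (by omega) (1 : F)
  obtain ⟨w, hw⟩ := exists_value h2 hQ (by omega) α
  refine ⟨v, w, by rw [hv]; exact one_ne_zero, by rw [hw]; exact hα0, ?_, ?_⟩
  · exact pq_reflIso h2 hQ v _ 1 (by rw [hv, map_one, Units.val_one])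
  · exact pq_reflIso h2 hQ w _ (-1) (by
      rw [hw, quadraticChar_neg_one_iff_not_isSquare.2 hα]; rfl)

include h2 hQ hn hsurj in
/-- A skeleton for `Out`, and the value of its two involutions. -/
theorem exists_skeleton {f : ℕ} (Φ : FieldGen P f) (d : ↥(semi ⇑Q)) (hd : fldHom ⇑Q d = 1)
    (hd' : sqHom P d = -1) : ∃ S : Skeleton (Cfsg.Out (Cfsg.POmega F ⇑Q)) (F ≃+* F) f,
      S.Φ = outHom ⇑Q Φ.φ ∧ S.D = outHom ⇑Q d ∧ ∃ r1 r2, pq h2 hQ r1 = (-1, 1) ∧
        pq h2 hQ r2 = (-1, -1) ∧ S.R1 = outHom ⇑Q (isoEmb ⇑Q r1) ∧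
        S.R2 = outHom ⇑Q (isoEmb ⇑Q r2) := by
  obtain ⟨v, w, hv, hw, e1, e2⟩ := exists_refls h2 hQ hn
  have hs1 : spinHom hQ (exists_isReflProd h2 hQ) (reflIso Q v hv) = 1 := congrArg Prod.snd e1
  have hs2 : spinHom hQ (exists_isReflProd h2 hQ) (reflIso Q w hw) = -1 := congrArg Prod.snd e2
  have hsq : ∀ h, outHom ⇑Q (isoEmb ⇑Q h) * outHom ⇑Q (isoEmb ⇑Q h) = 1 := by
    intro h
    rw [← map_mul, ← map_mul, ← map_one (outHom ⇑Q), ← map_one (isoEmb ⇑Q)]
    refine isoCls_eq_of_pq h2 hQ hn P ?_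
    rw [map_mul, map_one]
    obtain ⟨a, b⟩ := pq h2 hQ h
    exact Prod.ext (Int.units_mul_self a) (Int.units_mul_self b)
  refine ⟨
    { fld := fldOut hQ hn P hsurj
      cls := sqOut hQ hn P hsurj
      R1 := outHom ⇑Q (isoEmb ⇑Q (reflIso Q v hv))
      R2 := outHom ⇑Q (isoEmb ⇑Q (reflIso Q w hw))
      D := outHom ⇑Q d
      Φ := outHom ⇑Q Φ.φ
      fld_gen := fun g => by
        obtain ⟨x, rfl⟩ := hsurj g
        rw [fldOut_outHom, fldOut_outHom]
        exact Φ.gen _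
      ord_fld := by rw [fldOut_outHom]; exact Φ.ord
      fld_D := by rw [fldOut_outHom, hd]
      cls_D := by rw [sqOut_outHom, hd']
      cls_Φ := by rw [sqOut_outHom, Φ.sqHom_eq]
      fld_R1 := by rw [fldOut_outHom]; rfl
      fld_R2 := by rw [fldOut_outHom]; rfl
      cls_R1 := by rw [sqOut_outHom, sqHom_isoEmb]
      cls_R2 := by rw [sqOut_outHom, sqHom_isoEmb]
      sq_R1 := hsq _
      sq_R2 := hsq _
      comm := ?_
      ker := ?_
      swap := ?_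
      swap' := ?_
      fix1 := ?_
      fix2 := ?_ }, rfl, rfl, _, _, e1, e2, rfl, rfl⟩
  · show _ * _ = _ * _
    rw [← map_mul, ← map_mul, ← map_mul, ← map_mul]
    exact isoCls_eq_of_pq h2 hQ hn P (by rw [map_mul, map_mul, mul_comm])
  · intro g hf hc
    obtain ⟨x, rfl⟩ := hsurj g
    rw [fldOut_outHom] at hf
    rw [sqOut_outHom] at hc
    obtain ⟨h, hh⟩ := exists_isoCls h2 hQ hn P hf hc
    rw [hh]
    obtain ⟨a, b, hab⟩ : ∃ a b, pq h2 hQ h = (a, b) := ⟨_, _, rfl⟩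
    rcases Int.units_eq_one_or a with rfl | rfl <;> rcases Int.units_eq_one_or b with rfl | rfl
    · left
      rw [isoCls_eq_of_pq h2 hQ hn P (h' := 1) (hab.trans (map_one _).symm), map_one, map_one]
    · right; right; right
      rw [← map_mul, ← map_mul]
      exact isoCls_eq_of_pq h2 hQ hn P (hab.trans (by rw [map_mul, e1, e2]; rfl))
    · right; left
      exact isoCls_eq_of_pq h2 hQ hn P (hab.trans e1.symm)
    · right; right; left
      exact isoCls_eq_of_pq h2 hQ hn P (hab.trans e2.symm)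
  · rw [isoCls_conj]
    refine isoCls_eq_of_pq h2 hQ hn P ?_
    rw [conjIso_refl_pq, hd', hs1, e2, mul_one]
  · rw [isoCls_conj]
    refine isoCls_eq_of_pq h2 hQ hn P ?_
    rw [conjIso_refl_pq, hd', hs2, e1, neg_mul_neg, one_mul]
  · refine mul_inv_eq_iff_eq_mul.1 ?_
    rw [isoCls_conj]
    refine isoCls_eq_of_pq h2 hQ hn P ?_
    rw [conjIso_refl_pq, Φ.sqHom_eq, hs1, e1, one_mul]
  · refine mul_inv_eq_iff_eq_mul.1 ?_
    rw [isoCls_conj]
    refine isoCls_eq_of_pq h2 hQ hn P ?_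
    rw [conjIso_refl_pq, Φ.sqHom_eq, hs2, e2, one_mul]

theorem parity_negIso (he : Even (Fintype.card ι)) : (pq h2 hQ (negIso Q)).1 = 1 := by
  rw [parity_one_iff h2 hQ, det_negIso, he.neg_one_pow]

theorem pq_negIso_of_not_mem (he : Even (Fintype.card ι)) (hneg : negIso Q ∉ Cfsg.Omega F ⇑Q) :
    pq h2 hQ (negIso Q) = (1, -1) := by
  refine Prod.ext (parity_negIso h2 hQ he) ?_
  rcases Int.units_eq_one_or (pq h2 hQ (negIso Q)).2 with h | h
  · exact absurd ((pq_eq_one_iff h2 hQ _).1 (Prod.ext (parity_negIso h2 hQ he) h)) hneg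
  · exact h

include h2 hQ hn hsurj in
/-- Even dimension, `-1 ∈ Ω`. -/
theorem out_dihedral (he : Even (Fintype.card ι)) (hneg : negIso Q ∈ Cfsg.Omega F ⇑Q) {f : ℕ}
    (Φ : FieldGen P f) (d : ↥(semi ⇑Q)) (hd : fldHom ⇑Q d = 1) (hd' : sqHom P d = -1)
    (hpow : Φ.φ ^ f = 1 ∨ Odd f) :
    Nonempty (Cfsg.Out (Cfsg.POmega F ⇑Q) ≃* DihedralGroup 4 × Multiplicative (ZMod f)) := by
  obtain ⟨S, hΦ, -, r1, r2, e1, e2, hR1, hR2⟩ := exists_skeleton h2 hQ hn P hsurj Φ d hd hd'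
  refine S.dihedral ?_ (hpow.imp_left fun h => by rw [hΦ, ← map_pow, h, map_one])
  rw [hR1, hR2, ← map_mul, ← map_mul]
  refine isoCls_ne_one_of_pq h2 hQ hn P ?_ ?_
  · rw [map_mul, e1, e2]; decide
  · rw [(pq_eq_one_iff h2 hQ _).2 hneg, one_mul, map_mul, e1, e2]; decide

include h2 hQ hn in
theorem outHom_eq_one_of_det (he : Even (Fintype.card ι)) (hneg : negIso Q ∉ Cfsg.Omega F ⇑Q)
    {x : ↥(semi ⇑Q)} (hf : fldHom ⇑Q x = 1) (t : Fˣ) (ht : mult x = t * t)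
    (hdet : sdet x = (t : F) ^ Fintype.card ι) (P : TwoPairs Q) : outHom ⇑Q x = 1 := by
  obtain ⟨h, hh⟩ := exists_iso_of_mult P hf ht
  have h1 : outHom ⇑Q (scalarEmb Q t) = 1 :=
    (outHom_eq_one_iff hQ hn P _).2 ⟨t, 1, by rw [OneMemClass.coe_one, map_one, mul_one]⟩
  rw [hh, map_mul, h1, one_mul, isoCls_eq_one_iff hQ hn P, ← pq_eq_one_iff h2 hQ,
    ← pq_eq_one_iff h2 hQ, map_mul, pq_negIso_of_not_mem h2 hQ he hneg]
  have hdet' : (mat Q h).det = 1 := by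
    have := congrArg sdet hh
    rw [hdet, sdet_mul, sdet_scalarEmb, sdet_isoEmb] at this
    exact (mul_eq_left₀ (pow_ne_zero _ (Units.ne_zero t))).1 this.symm
  have hp := (parity_one_iff h2 hQ h).2 hdet'
  rcases Int.units_eq_one_or (pq h2 hQ h).2 with e | e
  · exact Or.inl (Prod.ext hp e)
  · refine Or.inr (Prod.ext ?_ ?_)
    · rw [Prod.fst_mul, hp]; rfl
    · rw [Prod.snd_mul, e]; rfl

include h2 hQ hn in
theorem abelian_facts (he : Even (Fintype.card ι)) (hneg : negIso Q ∉ Cfsg.Omega F ⇑Q) {f : ℕ}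
    (Φ : FieldGen P f) (d : ↥(semi ⇑Q)) (hd : fldHom ⇑Q d = 1) :
    outHom ⇑Q d * outHom ⇑Q d = 1 ∧ Commute (outHom ⇑Q d) (outHom ⇑Q Φ.φ) := by
  obtain ⟨l, hl⟩ := he
  have hr : d.1.right = 1 := hd
  have hm := sdet_sq hQ hd
  refine ⟨?_, ?_⟩
  · rw [← map_mul]
    refine outHom_eq_one_of_det h2 hQ hn ⟨l, hl⟩ hneg (by rw [map_mul, hd, one_mul]) (mult d) ?_ ?_ P
    · rw [mult_mul P, hr]
      rfl
    · rw [sdet_mul, hr]
      exact hm
  · refine (mul_inv_eq_iff_eq_mul.1 ?_).symm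
    rw [← mul_inv_eq_one, ← map_inv, ← map_mul, ← map_mul, ← map_inv, ← map_mul]
    set σ := Φ.φ.1.right with hσ
    obtain ⟨x, hx⟩ : ∃ x, x = Φ.φ * d * Φ.φ⁻¹ * d⁻¹ := ⟨_, rfl⟩
    rw [← hx]
    have hxf : fldHom ⇑Q x = 1 := by simp [hx, hd]
    have hxr : x.1.right = 1 := hxf
    have e : x * d * Φ.φ = Φ.φ * d := by rw [hx]; group
    -- multiplier
    have hm1 : mult x * mult d = Units.map (σ : F →* F) (mult d) := by
      have := congrArg mult e
      rw [mult_mul P, mult_mul P, mult_mul P, Φ.mult_one, map_one, mul_one, one_mul, hxr] at this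
      exact this
    -- determinant
    have hd1 : sdet x * sdet d = σ (sdet d) := by
      have := congrArg sdet e
      rw [sdet_mul, sdet_mul, sdet_mul, Subgroup.coe_mul, SemidirectProduct.mul_right, hxr, hr,
        mul_one] at this
      change sdet x * sdet d * sdet Φ.φ = sdet Φ.φ * σ (sdet d) at this
      exact mul_right_cancel₀ (fun h => (Φ.φ.1.left.isUnit.map Matrix.detMonoidHom).ne_zero h)
        (this.trans (mul_comm _ _))
    have hsx : sqHom P x = 1 := by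
      have h := congrArg (quadraticChar F) (congrArg Units.val hm1)
      rw [Units.val_mul, map_mul] at h
      change _ = quadraticChar F (σ (mult d : F)) at h
      rw [chi_map] at h
      ext
      rw [sqHom_coe, Units.val_one]
      exact (mul_eq_right₀ (fun h0 => Units.ne_zero (mult d) (quadraticChar_eq_zero_iff.1 h0))).1 h
    obtain ⟨t, ht⟩ := exists_sqrt_of_sqHom hsx
    refine outHom_eq_one_of_det h2 hQ hn ⟨l, hl⟩ hneg hxf t ht ?_ P
    obtain ⟨δ, hδ, hdd⟩ : ∃ δ : ℤ, (δ = 1 ∨ δ = -1) ∧ sdet d = (δ : F) * (mult d : F) ^ l := by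
      rw [hl, pow_add] at hm
      rcases mul_self_eq_mul_self_iff.1 hm with h | h
      · exact ⟨1, Or.inl rfl, by rw [h, Int.cast_one, one_mul]⟩
      · exact ⟨-1, Or.inr rfl, by rw [h, Int.cast_neg, Int.cast_one, neg_one_mul]⟩
    have hd0 : sdet d ≠ 0 := fun h => (d.1.left.isUnit.map Matrix.detMonoidHom).ne_zero h
    refine mul_right_cancel₀ hd0 ?_
    rw [hd1, hdd, map_mul, map_intCast, map_pow,
      show σ (mult d : F) = (mult x : F) * (mult d : F) from (congrArg Units.val hm1).symm, ht,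
      hl, Units.val_mul]
    ring

include h2 hQ hn hsurj in
theorem abelian_R {he : Even (Fintype.card ι)} (hneg : negIso Q ∉ Cfsg.Omega F ⇑Q) {f : ℕ}
    {S : Skeleton (Cfsg.Out (Cfsg.POmega F ⇑Q)) (F ≃+* F) f} {r1 r2}
    (e1 : pq h2 hQ r1 = (-1, 1)) (e2 : pq h2 hQ r2 = (-1, -1))
    (hR1 : S.R1 = outHom ⇑Q (isoEmb ⇑Q r1)) (hR2 : S.R2 = outHom ⇑Q (isoEmb ⇑Q r2))
    (P : TwoPairs Q) : S.R1 = S.R2 ∧ S.R1 ≠ 1 := by
  have hp := pq_negIso_of_not_mem h2 hQ he hneg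
  constructor
  · rw [hR1, hR2]
    have : outHom ⇑Q (isoEmb ⇑Q (negIso Q)) = 1 :=
      (outHom_eq_one_iff hQ hn P _).2 ⟨-1, 1, by rw [OneMemClass.coe_one, map_one, mul_one]; rfl⟩
    rw [← one_mul (outHom ⇑Q (isoEmb ⇑Q r1)), ← this, ← map_mul, ← map_mul]
    exact isoCls_eq_of_pq h2 hQ hn P (by rw [map_mul, hp, e1, e2]; rfl)
  · rw [hR1]
    refine isoCls_ne_one_of_pq h2 hQ hn P ?_ ?_
    · rw [e1]; decide
    · rw [hp, e1]; decide

include h2 hQ hn hsurj in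
/-- Even dimension, `-1 ∉ Ω`, split field part. -/
theorem out_split (he : Even (Fintype.card ι)) (hneg : negIso Q ∉ Cfsg.Omega F ⇑Q) {f : ℕ}
    (Φ : FieldGen P f) (d : ↥(semi ⇑Q)) (hd : fldHom ⇑Q d = 1) (hd' : sqHom P d = -1)
    (hpow : Φ.φ ^ f = 1) :
    Nonempty (Cfsg.Out (Cfsg.POmega F ⇑Q) ≃* Multiplicative (ZMod 2 × ZMod 2 × ZMod f)) := by
  obtain ⟨S, hΦ, hD, r1, r2, e1, e2, hR1, hR2⟩ := exists_skeleton h2 hQ hn P hsurj Φ d hd hd'
  obtain ⟨h12, hne⟩ := abelian_R h2 hQ hn hsurj (he := he) hneg e1 e2 hR1 hR2 P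
  obtain ⟨a1, a2⟩ := abelian_facts h2 hQ hn P he hneg Φ d hd
  exact S.abelian_split h12 hne (by rw [hD, a1]) (by rw [hD, hΦ]; exact a2)
    (by rw [hΦ, ← map_pow, hpow, map_one])

include h2 hQ hn hsurj in
/-- Even dimension, `-1 ∉ Ω`, nonsplit field part. -/
theorem out_nonsplit (he : Even (Fintype.card ι)) (hneg : negIso Q ∉ Cfsg.Omega F ⇑Q) {f : ℕ}
    (hf : 1 ≤ f) (Φ : FieldGen P f) (d : ↥(semi ⇑Q)) (hd : fldHom ⇑Q d = 1) (hd' : sqHom P d = -1)
    (hdet : sdet (Φ.φ ^ f) = -1) :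
    Nonempty (Cfsg.Out (Cfsg.POmega F ⇑Q) ≃* Multiplicative (ZMod 2 × ZMod (2 * f))) := by
  obtain ⟨S, hΦ, hD, r1, r2, e1, e2, hR1, hR2⟩ := exists_skeleton h2 hQ hn P hsurj Φ d hd hd'
  obtain ⟨h12, hne⟩ := abelian_R h2 hQ hn hsurj (he := he) hneg e1 e2 hR1 hR2 P
  obtain ⟨a1, a2⟩ := abelian_facts h2 hQ hn P he hneg Φ d hd
  refine S.abelian_nonsplit hf h12 hne (by rw [hD, a1]) (by rw [hD, hΦ]; exact a2) ?_
  obtain ⟨h, hh⟩ := exists_iso_of_mult P (Φ.fld_pow) (t := 1)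
    (by rw [mult_pow_of_one P Φ.mult_one, one_mul])
  rw [map_one, one_mul] at hh
  have hp : (pq h2 hQ h).1 = -1 := by
    refine (Int.units_eq_one_or _).resolve_left fun e => h2 ?_
    rw [parity_one_iff h2 hQ, ← sdet_isoEmb, ← hh, hdet] at e
    linear_combination -e
  rw [hΦ, ← map_pow, hh]
  rcases Int.units_eq_one_or (pq h2 hQ h).2 with e | e
  · rw [hR1]
    exact isoCls_eq_of_pq h2 hQ hn P ((Prod.ext hp e).trans e1.symm)
  · rw [h12, hR2]
    exact isoCls_eq_of_pq h2 hQ hn P ((Prod.ext hp e).trans e2.symm)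

include h2 hQ hn hsurj in
/-- Odd dimension. -/
theorem out_odd (hodd : Odd (Fintype.card ι)) {f : ℕ} (Φ : FieldGen P f) (hpow : Φ.φ ^ f = 1) :
    Nonempty (Cfsg.Out (Cfsg.POmega F ⇑Q) ≃* Multiplicative (ZMod 2 × ZMod f)) := by
  obtain ⟨v, w, hv, hw, e1, e2⟩ := exists_refls h2 hQ hn
  set r := reflIso Q v hv * reflIso Q w hw with hr
  have hpr : pq h2 hQ r = (1, -1) := by rw [hr, map_mul, e1, e2]; rfl
  set R := outHom ⇑Q (isoEmb ⇑Q r) with hR
  have hR2 : R ^ 2 = 1 := by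
    rw [hR, pow_two, ← map_mul, ← map_mul, isoCls_eq_of_pq h2 hQ hn P (h' := 1)
      (by rw [map_mul, hpr, map_one]; rfl), map_one, map_one]
  have hpn : (pq h2 hQ (negIso Q)).1 = -1 := by
    refine (Int.units_eq_one_or _).resolve_left fun e => h2 ?_
    rw [parity_one_iff h2 hQ, det_negIso, hodd.neg_one_pow] at e
    linear_combination -e
  have hne : R ≠ 1 := by
    refine isoCls_ne_one_of_pq h2 hQ hn P ?_ ?_
    · rw [hpr]; decide
    · intro e
      have := congrArg Prod.fst e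
      rw [Prod.fst_mul, hpn, hpr] at this
      simp at this
  have hΦf : outHom ⇑Q Φ.φ ^ f = 1 := by rw [← map_pow, hpow, map_one]
  have hcomm : Commute R (outHom ⇑Q Φ.φ) := by
    refine (mul_inv_eq_iff_eq_mul.1 ?_).symm
    rw [hR, isoCls_conj]
    refine isoCls_eq_of_pq h2 hQ hn P ?_
    have hs1 : spinHom hQ (exists_isReflProd h2 hQ) (reflIso Q v hv) = 1 := congrArg Prod.snd e1
    have hs2 : spinHom hQ (exists_isReflProd h2 hQ) (reflIso Q w hw) = -1 := congrArg Prod.snd e2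
    rw [hr, map_mul, map_mul, map_mul, conjIso_refl_pq, conjIso_refl_pq, Φ.sqHom_eq, hs1, hs2, e1,
      e2, one_mul, one_mul]
  obtain ⟨E⟩ : Nonempty (Cfsg.Out (Cfsg.POmega F ⇑Q) ≃*
      Multiplicative (ZMod 2) × Multiplicative (ZMod f)) := by
    refine exists_prod_mulEquiv (powHom 2 R hR2) (powHom f (outHom ⇑Q Φ.φ) hΦf) ?_
      (fldOut hQ hn P hsurj) (powHom_injective 2 R hR2 (orderOf_eq_prime hR2 hne)) ?_ ?_ ?_
    · intro x y
      obtain ⟨i, -, hi⟩ := powHom_exists 2 R hR2 x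
      obtain ⟨j, -, hj⟩ := powHom_exists f _ hΦf y
      rw [hi, hj]
      exact hcomm.zpow_zpow i j
    · intro x
      obtain ⟨i, -, hi⟩ := powHom_exists 2 R hR2 x
      rw [hi, map_zpow, hR, fldOut_outHom]
      exact _root_.one_zpow i
    · rw [injective_iff_map_eq_one]
      intro y hy
      obtain ⟨j, rfl, hj⟩ := powHom_exists f _ hΦf y
      rw [MonoidHom.comp_apply, hj, map_zpow, fldOut_outHom, ← orderOf_dvd_iff_zpow_eq_one,
        Φ.ord, ← ZMod.intCast_zmod_eq_zero_iff_dvd] at hy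
      rw [hy, ofAdd_zero]
    · intro g
      obtain ⟨x, rfl⟩ := hsurj g
      obtain ⟨k, hk⟩ := Φ.gen (fldHom ⇑Q x)
      set y := x * (Φ.φ ^ k)⁻¹ with hy
      have hyf : fldHom ⇑Q y = 1 := by rw [hy, map_mul, map_inv, map_zpow, ← hk, mul_inv_cancel]
      have hys : sqHom P y = 1 := by
        refine (Int.units_eq_one_or _).resolve_right fun e => ?_
        have h := congrArg (quadraticChar F) (sdet_sq hQ hyf)
        rw [map_pow, ← sqHom_coe P, e, Units.val_neg, Units.val_one, hodd.neg_one_pow, map_mul] at h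
        nlinarith [mul_self_nonneg (quadraticChar F (sdet y))]
      obtain ⟨h, hh⟩ := exists_isoCls h2 hQ hn P hyf hys
      have hneg1 : outHom ⇑Q (isoEmb ⇑Q (negIso Q)) = 1 :=
        (outHom_eq_one_iff hQ hn P _).2 ⟨-1, 1, by rw [OneMemClass.coe_one, map_one, mul_one]; rfl⟩
      obtain ⟨h', hh', hpar⟩ : ∃ h', outHom ⇑Q (isoEmb ⇑Q h) = outHom ⇑Q (isoEmb ⇑Q h') ∧
          (pq h2 hQ h').1 = 1 := by
        rcases Int.units_eq_one_or (pq h2 hQ h).1 with e | e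
        · exact ⟨h, rfl, e⟩
        · exact ⟨negIso Q * h, by rw [map_mul, map_mul, hneg1, one_mul],
            by rw [map_mul, Prod.fst_mul, hpn, e]; rfl⟩
      have hfin : ∃ i : ℤ, outHom ⇑Q (isoEmb ⇑Q h') = R ^ i := by
        rcases Int.units_eq_one_or (pq h2 hQ h').2 with e | e
        · refine ⟨0, ?_⟩
          rw [zpow_zero, isoCls_eq_of_pq h2 hQ hn P (h := h') (h' := 1)
            ((Prod.ext hpar e).trans (map_one _).symm), map_one, map_one]
        · refine ⟨1, ?_⟩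
          rw [zpow_one]
          exact isoCls_eq_of_pq h2 hQ hn P ((Prod.ext hpar e).trans hpr.symm)
      obtain ⟨i, hi⟩ := hfin
      refine ⟨Multiplicative.ofAdd (i : ZMod 2), Multiplicative.ofAdd (k : ZMod f), ?_⟩
      rw [powHom_int, powHom_int, ← hi, ← hh', ← hh, ← map_zpow, ← map_mul, hy,
        inv_mul_cancel_right]
  exact ⟨E.trans (MulEquiv.prodMultiplicative (G := ZMod 2) (H := ZMod f)).symm⟩

end CfsgLib.OutPOmega
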