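import Cfsg.Agent.OutPOmega.CharTwo

/-!
# `Out(PΩ⁺_{2m}(q))` for `m ≥ 5`
-/

set_option autoImplicit false
set_option linter.unusedSectionVars false

namespace CfsgLib.OutPOmega

open Matrix Module CfsgLib.Spinor CfsgLib.Forms CfsgLib.Forms4 CfsgLib.StdForms CfsgLib.AutPOmega

variable {F : Type*} [Field F] [Fintype F] {p f m : ℕ} [Fact p.Prime]

theorem outHom_plus_surjective (hm : 5 ≤ m) :
    Function.Surjective (outHom ⇑(plusQ m F)) :=
  outHom_surjective ((ctx_plusQ (by omega)).exists_induced (noTriality_plusQ hm))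

theorem out_plus_charTwo (hf : 1 ≤ f) (hF : Fintype.card F = 2 ^ f) (hm : 5 ≤ m) :
    Nonempty (Cfsg.Out (Cfsg.POmega F (Cfsg.quadFormPlus m F)) ≃*
      Multiplicative (ZMod 2 × ZMod f)) := by
  have : Fact (Nat.Prime 2) := ⟨Nat.prime_two⟩
  have hch : CharP F 2 := charP_of_card hF
  rw [← coe_plusQ]
  let P := plusPairs (F := F) m (by omega)
  obtain ⟨Φ, hΦ⟩ := exists_fieldGen_of_sdet hF hf P fun σ _ v => frob_plus m σ v
  exact out_charTwo_split (plusQ_nondegenerate m) (by simp; omega) P (outHom_plus_surjective hm) Φ hΦ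

theorem plus_mod_four_iff {q m : ℕ} (hq : Odd q) : q ^ m % 4 = 1 ↔ ¬ (q % 4 = 3 ∧ Odd m) := by
  rw [← pow_mod_four_iff hq]
  have := Nat.odd_iff.1 (hq.pow (n := m))
  omega

theorem out_plus_odd (hf : 1 ≤ f) (hF : Fintype.card F = p ^ f) (hp : p ≠ 2) (hm : 5 ≤ m) :
    if p ^ f % 4 = 3 ∧ Odd m then
      Nonempty (Cfsg.Out (Cfsg.POmega F (Cfsg.quadFormPlus m F)) ≃*
        Multiplicative (ZMod 2 × ZMod 2 × ZMod f))
    else Nonempty (Cfsg.Out (Cfsg.POmega F (Cfsg.quadFormPlus m F)) ≃*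
      DihedralGroup 4 × Multiplicative (ZMod f)) := by
  classical
  rw [← coe_plusQ]
  have hch : CharP F p := charP_of_card hF
  have h2 : (2 : F) ≠ 0 := Ring.two_ne_zero (by rw [ringChar.eq F p]; exact hp)
  have hq : Odd (p ^ f) := ((Fact.out : p.Prime).odd_of_ne_two hp).pow
  have hn : 5 ≤ Fintype.card (Fin m ⊕ Fin m) := by simp; omega
  have he : Even (Fintype.card (Fin m ⊕ Fin m)) := ⟨m, by simp⟩
  let P := plusPairs (F := F) m (by omega)
  have hsurj := outHom_plus_surjective (F := F) hm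
  obtain ⟨α, hα⟩ := FiniteField.exists_nonsquare (F := F) (by rw [ringChar.eq F p]; exact hp)
  have hα0 : α ≠ 0 := fun h => hα (by rw [h]; exact IsSquare.zero)
  obtain ⟨d, hd, hdm⟩ := exists_plus_similitude m P hα0
  have hd' := sqHom_eq_neg (P := P) hdm hα
  obtain ⟨Φ, hΦ⟩ := exists_fieldGen_of_sdet hF hf P fun σ _ v => frob_plus m σ v
  have hiff := negIso_mem_iff.trans ((neg_one_mem_omega_plus hF hq m).trans (plus_mod_four_iff hq))
  split_ifs with hc
  · exact out_split h2 (plusQ_nondegenerate m) hn P hsurj he (fun h => hiff.1 h hc) Φ d hd hd' hΦ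
  · exact out_dihedral h2 (plusQ_nondegenerate m) hn P hsurj he (hiff.2 hc) Φ d hd hd' (Or.inl hΦ)

end CfsgLib.OutPOmega
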