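import Cfsg.Agent.Forms4.OmegaSimple
import Cfsg.Prelude.Def_LieTypeDatum

/-!
# The semisimilarity group acting on `PΩ(Q)`

`SemiAmb ι F` is the group of all semilinear bijections `v ↦ g σ(v)`, `semi Q` the semisimilarities of
`Q`, `theta Q` its action on `PΩ(Q)`, `outHom Q` the resulting map to `Out(PΩ(Q))`.
-/

set_option autoImplicit false
set_option linter.unusedSectionVars false

namespace CfsgLib.OutPOmega

open Matrix Module CfsgLib.Spinor CfsgLib.Forms CfsgLib.Forms4

variable {F : Type*} [Field F] {ι : Type} [Fintype ι] [DecidableEq ι]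

/-- A field automorphism applied entrywise. -/
def fieldGL : (F ≃+* F) →* MulAut (GL ι F) where
  toFun σ := Units.mapEquiv (RingEquiv.mapMatrix σ).toMulEquiv
  map_one' := by ext g i j; rfl
  map_mul' σ τ := by ext g i j; rfl

theorem fieldGL_coe (σ : F ≃+* F) (g : GL ι F) : (fieldGL σ g : GL ι F).1 = g.1.map σ := rfl

/-- All semilinear bijections. -/
abbrev SemiAmb (ι : Type) [Fintype ι] [DecidableEq ι] (F : Type*) [Field F] :=
  GL ι F ⋊[fieldGL (F := F) (ι := ι)] (F ≃+* F)

/-- The action on vectors. -/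
def act (x : SemiAmb ι F) (v : ι → F) : ι → F := x.left.1 *ᵥ fun i => x.right (v i)

theorem map_mulVec_field (σ : F ≃+* F) (A : Matrix ι ι F) (v : ι → F) :
    A.map σ *ᵥ (fun i => σ (v i)) = fun i => σ ((A *ᵥ v) i) :=
  funext fun i => (RingHom.map_mulVec σ.toRingHom A v i).symm

theorem act_one (v : ι → F) : act (1 : SemiAmb ι F) v = v := by
  show (1 : Matrix ι ι F) *ᵥ v = v
  rw [Matrix.one_mulVec]

theorem act_mul (x y : SemiAmb ι F) (v : ι → F) : act (x * y) v = act x (act y v) := by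
  show (x.left.1 * y.left.1.map x.right) *ᵥ (fun i => x.right (y.right (v i))) = _
  rw [← Matrix.mulVec_mulVec, map_mulVec_field x.right y.left.1 fun i => y.right (v i)]
  rfl

theorem act_inv_act (x : SemiAmb ι F) (v : ι → F) : act x⁻¹ (act x v) = v := by
  rw [← act_mul, inv_mul_cancel, act_one]

theorem act_act_inv (x : SemiAmb ι F) (v : ι → F) : act x (act x⁻¹ v) = v := by
  rw [← act_mul, mul_inv_cancel, act_one]

theorem act_injective (x : SemiAmb ι F) : Function.Injective (act x) :=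
  Function.LeftInverse.injective (act_inv_act x)

theorem act_add (x : SemiAmb ι F) (u v : ι → F) : act x (u + v) = act x u + act x v := by
  rw [act, act, act, ← Matrix.mulVec_add]
  congr 1
  funext i
  simp

theorem act_smul (x : SemiAmb ι F) (t : F) (v : ι → F) : act x (t • v) = x.right t • act x v := by
  rw [act, act, ← Matrix.mulVec_smul]
  congr 1
  funext i
  simp

theorem act_zero (x : SemiAmb ι F) : act x (0 : ι → F) = 0 := by
  have h := act_smul x (0 : F) (0 : ι → F)
  simpa using h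

theorem act_sub (x : SemiAmb ι F) (u v : ι → F) : act x (u - v) = act x u - act x v := by
  rw [eq_sub_iff_add_eq, ← act_add, sub_add_cancel]

theorem act_inl (g : GL ι F) (v : ι → F) : act (SemidirectProduct.inl g) v = g.1 *ᵥ v := rfl

theorem semisim_inv {Q : (ι → F) → F} {x : SemiAmb ι F} {c : Fˣ}
    (hc : ∀ v, Q (act x v) = (c : F) * x.right (Q v)) (v : ι → F) :
    Q (act x⁻¹ v) = x.right.symm ((c⁻¹ : Fˣ) : F) * x⁻¹.right (Q v) := by
  have h := hc (act x⁻¹ v)
  rw [act_act_inv] at h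
  show _ = x.right.symm _ * x.right.symm (Q v)
  rw [← map_mul, h, Units.inv_mul_cancel_left, RingEquiv.symm_apply_apply]

/-- The semisimilarities of `Q`. -/
def semi (Q : (ι → F) → F) : Subgroup (SemiAmb ι F) where
  carrier := {x | Cfsg.IsSemisimilarityPair Q x.left x.right}
  one_mem' := ⟨1, fun v => by
    change Q (act (1 : SemiAmb ι F) v) = _
    rw [act_one]; simp⟩
  mul_mem' := by
    rintro x y ⟨c, hc⟩ ⟨d, hd⟩
    refine ⟨c * Units.map (x.right : F →* F) d, fun v => ?_⟩
    show Q (act (x * y) v) = _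
    change ∀ v, Q (act x v) = _ at hc
    change ∀ v, Q (act y v) = _ at hd
    rw [act_mul, hc, hd, map_mul, Units.val_mul, mul_assoc]
    rfl
  inv_mem' := by
    rintro x ⟨c, hc⟩
    refine ⟨Units.map (x.right.symm : F →* F) c⁻¹, fun v => ?_⟩
    exact semisim_inv (Q := Q) hc v

theorem mem_semi_iff {Q : (ι → F) → F} {x : SemiAmb ι F} :
    x ∈ semi Q ↔ ∃ c : Fˣ, ∀ v, Q (act x v) = (c : F) * x.right (Q v) := Iff.rfl

theorem inl_mem_semi {Q : (ι → F) → F} (h : ↥(Cfsg.isometryGroup F Q)) :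
    SemidirectProduct.inl h.1 ∈ semi Q := by
  refine ⟨1, fun v => ?_⟩
  have := h.2 v
  simpa [SemidirectProduct.right_inl] using this v

/-- The isometries inside the semisimilarities. -/
def isoEmb (Q : (ι → F) → F) : ↥(Cfsg.isometryGroup F Q) →* ↥(semi Q) :=
  (SemidirectProduct.inl.comp (Cfsg.isometryGroup F Q).subtype).codRestrict _ inl_mem_semi

theorem isoEmb_injective (Q : (ι → F) → F) : Function.Injective (isoEmb Q) := fun _ _ h =>
  Subtype.ext (SemidirectProduct.inl_injective (congrArg Subtype.val h))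

/-- The matrix of a conjugate isometry. -/
def conjLin (x : SemiAmb ι F) (g : GL ι F) : GL ι F := x.left * fieldGL x.right g * x.left⁻¹

theorem inl_conjLin (x : SemiAmb ι F) (g : GL ι F) :
    (SemidirectProduct.inl (conjLin x g) : SemiAmb ι F) = x * SemidirectProduct.inl g * x⁻¹ := by
  rw [eq_mul_inv_iff_mul_eq]
  refine SemidirectProduct.ext ?_ ?_
  · simp [conjLin]
  · simp

theorem conjLin_mem {Q : (ι → F) → F} (x : ↥(semi Q)) (h : ↥(Cfsg.isometryGroup F Q)) :
    conjLin x.1 h.1 ∈ Cfsg.isometryGroup F Q := by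
  intro v _
  obtain ⟨c, hc⟩ := mem_semi_iff.1 x.2
  show Q ((conjLin x.1 h.1).1 *ᵥ v) = Q v
  rw [← act_inl, inl_conjLin, act_mul, act_mul, hc, act_inl,
    show Q (h.1.1 *ᵥ act x.1⁻¹ v) = Q (act x.1⁻¹ v) from h.2 _ (act x.1⁻¹ v), ← hc, act_act_inv]

/-- Conjugation by semisimilarities on the isometry group. -/
def conjIso (Q : (ι → F) → F) : ↥(semi Q) →* MulAut ↥(Cfsg.isometryGroup F Q) where
  toFun x :=
    { toFun := fun h => ⟨conjLin x.1 h.1, conjLin_mem x h⟩
      invFun := fun h => ⟨conjLin (x⁻¹).1 h.1, conjLin_mem x⁻¹ h⟩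
      left_inv := fun h => Subtype.ext (SemidirectProduct.inl_injective (φ := fieldGL (F := F) (ι := ι)) (by
        simp only [inl_conjLin, InvMemClass.coe_inv]; group))
      right_inv := fun h => Subtype.ext (SemidirectProduct.inl_injective (φ := fieldGL (F := F) (ι := ι)) (by
        simp only [inl_conjLin, InvMemClass.coe_inv]; group))
      map_mul' := fun h h' => Subtype.ext (SemidirectProduct.inl_injective (φ := fieldGL (F := F) (ι := ι)) (by
        simp only [inl_conjLin, Subgroup.coe_mul, map_mul]; group)) }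
  map_one' := by
    ext1 h
    exact Subtype.ext (SemidirectProduct.inl_injective (φ := fieldGL (F := F) (ι := ι)) (by
      show SemidirectProduct.inl (conjLin 1 h.1) = _
      simp only [inl_conjLin]; simp))
  map_mul' x y := by
    ext1 h
    exact Subtype.ext (SemidirectProduct.inl_injective (φ := fieldGL (F := F) (ι := ι)) (by
      show SemidirectProduct.inl (conjLin (x.1 * y.1) h.1) =
        SemidirectProduct.inl (conjLin x.1 (conjLin y.1 h.1))
      simp only [inl_conjLin, _root_.mul_inv_rev, mul_assoc]))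

theorem conjIso_coe {Q : (ι → F) → F} (x : ↥(semi Q)) (h : ↥(Cfsg.isometryGroup F Q)) :
    (conjIso Q x h).1.1 = x.1.left.1 * h.1.1.map x.1.right * (x.1.left⁻¹ : GL ι F).1 := rfl

theorem isoEmb_conjIso {Q : (ι → F) → F} (x : ↥(semi Q)) (h : ↥(Cfsg.isometryGroup F Q)) :
    isoEmb Q (conjIso Q x h) = x * isoEmb Q h * x⁻¹ :=
  Subtype.ext (inl_conjLin x.1 h.1)

theorem conjIso_isoEmb {Q : (ι → F) → F} (s h : ↥(Cfsg.isometryGroup F Q)) :
    conjIso Q (isoEmb Q s) h = s * h * s⁻¹ :=
  isoEmb_injective Q (by rw [isoEmb_conjIso, map_mul, map_mul, map_inv])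

section Induced

variable {G : Type*} [Group G]

/-- An automorphism restricted to the derived subgroup. -/
def derivedAut : MulAut G →* MulAut ↥(commutator G) where
  toFun α := (α.subgroupMap (commutator G)).trans
    (MulEquiv.subgroupCongr (Subgroup.characteristic_iff_map_eq.1 inferInstance α))
  map_one' := by ext x; rfl
  map_mul' α β := by ext x; rfl

theorem derivedAut_coe (α : MulAut G) (x : ↥(commutator G)) : (derivedAut α x : G) = α x := rfl

/-- An automorphism on the quotient by the centre. -/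
def centreQuotAut : MulAut G →* MulAut (G ⧸ Subgroup.center G) where
  toFun α := QuotientGroup.congr _ _ α (Subgroup.characteristic_iff_map_eq.1 inferInstance α)
  map_one' := by
    ext1 x
    induction x using QuotientGroup.induction_on
    rfl
  map_mul' α β := by
    ext1 x
    induction x using QuotientGroup.induction_on
    rfl

theorem centreQuotAut_mk (α : MulAut G) (x : G) :
    centreQuotAut α (QuotientGroup.mk x) = QuotientGroup.mk (α x) := rfl

end Induced

/-- The action of semisimilarities on `PΩ(Q)`. -/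
def theta (Q : (ι → F) → F) : ↥(semi Q) →* MulAut (Cfsg.POmega F Q) :=
  centreQuotAut.comp (derivedAut.comp (conjIso Q))

theorem theta_mk {Q : (ι → F) → F} (x : ↥(semi Q)) (s : ↥(Cfsg.Omega F Q)) :
    theta Q x (QuotientGroup.mk s) = QuotientGroup.mk (derivedAut (conjIso Q x) s) := rfl

theorem isInduced_iff {Q : (ι → F) → F} {g : GL ι F} {σ : F ≃+* F}
    (h : Cfsg.IsSemisimilarityPair Q g σ) (β : MulAut (Cfsg.POmega F Q)) :
    Cfsg.IsInducedBySemilinearPOmega Q g σ β ↔ β = theta Q ⟨⟨g, σ⟩, h⟩ := by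
  constructor
  · intro hb
    ext1 y
    induction y using QuotientGroup.induction_on with
    | H s => exact hb s (derivedAut (conjIso Q ⟨⟨g, σ⟩, h⟩) s) rfl
  · rintro rfl s s' hs
    rw [theta_mk]
    exact congrArg _ (Subtype.ext (Subtype.ext (Units.ext hs.symm)))

theorem theta_isoEmb {Q : (ι → F) → F} (s : ↥(Cfsg.Omega F Q)) :
    theta Q (isoEmb Q s.1) = MulAut.conj (QuotientGroup.mk s) := by
  ext1 y
  induction y using QuotientGroup.induction_on with
  | H t =>
    rw [theta_mk, MulAut.conj_apply, ← QuotientGroup.mk_inv, ← QuotientGroup.mk_mul,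
      ← QuotientGroup.mk_mul]
    refine congrArg _ (Subtype.ext ?_)
    rw [derivedAut_coe, conjIso_isoEmb]
    rfl

/-- The map to the outer automorphism group. -/
def outHom (Q : (ι → F) → F) : ↥(semi Q) →* Cfsg.Out (Cfsg.POmega F Q) :=
  (QuotientGroup.mk' (Cfsg.Inn (Cfsg.POmega F Q))).comp (theta Q)

theorem outHom_surjective {Q : (ι → F) → F}
    (h : ∀ β : MulAut (Cfsg.POmega F Q), ∃ g σ, Cfsg.IsSemisimilarityPair Q g σ ∧
      Cfsg.IsInducedBySemilinearPOmega Q g σ β) : Function.Surjective (outHom Q) := by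
  intro y
  obtain ⟨β, rfl⟩ := QuotientGroup.mk_surjective y
  obtain ⟨g, σ, hp, hb⟩ := h β
  exact ⟨⟨⟨g, σ⟩, hp⟩, by rw [(isInduced_iff hp β).1 hb]; rfl⟩

/-- The scalar semisimilarity. -/
theorem scalar_mem_semi (Q : QuadraticForm F (ι → F)) (t : Fˣ) :
    (SemidirectProduct.inl (Matrix.GeneralLinearGroup.scalar ι t) : SemiAmb ι F) ∈ semi ⇑Q := by
  refine ⟨t * t, fun v => ?_⟩
  show Q ((Matrix.GeneralLinearGroup.scalar ι t).1 *ᵥ v) = _
  rw [show (Matrix.GeneralLinearGroup.scalar ι t).1 *ᵥ v = (t : F) • v from by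
    funext i; simp [Matrix.GeneralLinearGroup.scalar, Matrix.mulVec_diagonal],
    QuadraticMap.map_smul, smul_eq_mul, Units.val_mul]
  rfl

/-- Scalars as semisimilarities. -/
def scalarEmb (Q : QuadraticForm F (ι → F)) : Fˣ →* ↥(semi ⇑Q) :=
  (SemidirectProduct.inl.comp (Matrix.GeneralLinearGroup.scalar ι)).codRestrict _ (scalar_mem_semi Q)

theorem act_scalar (t : Fˣ) (v : ι → F) :
    act (SemidirectProduct.inl (Matrix.GeneralLinearGroup.scalar ι t) : SemiAmb ι F) v = (t : F) • v := by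
  funext i
  simp [act, Matrix.GeneralLinearGroup.scalar, Matrix.mulVec_diagonal]

variable {Q : QuadraticForm F (ι → F)}

theorem mem_semi_quad {x : SemiAmb ι F} :
    x ∈ semi ⇑Q ↔ ∃ c : Fˣ, ∀ v, Q (act x v) = (c : F) * x.right (Q v) := Iff.rfl

theorem theta_scalarEmb (t : Fˣ) : theta ⇑Q (scalarEmb Q t) = 1 := by
  have h : conjIso ⇑Q (scalarEmb Q t) = 1 := by
    ext1 s
    apply Subtype.ext
    show Matrix.GeneralLinearGroup.scalar ι t * fieldGL 1 s.1 *
      (Matrix.GeneralLinearGroup.scalar ι t)⁻¹ = s.1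
    have hc : Matrix.GeneralLinearGroup.scalar ι t ∈ Subgroup.center (GL ι F) := by
      rw [Matrix.GeneralLinearGroup.center_eq_range_scalar]; exact ⟨t, rfl⟩
    rw [map_one, MulAut.one_apply, ← Subgroup.mem_center_iff.1 hc, mul_inv_cancel_right]
  rw [theta, MonoidHom.comp_apply, MonoidHom.comp_apply, h, map_one, map_one]

theorem act_eq_of_mul_comm {x y : SemiAmb ι F} (h : x * y = y * x) (v : ι → F) :
    act x (act y v) = act y (act x v) := by rw [← act_mul, h, act_mul]

section Faithful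

variable [Finite F] (hQ : (QuadraticMap.polarBilin Q).Nondegenerate) (hn : 5 ≤ Fintype.card ι)
  (P : TwoPairs Q)

set_option quotPrecheck false in
local notation "B" => QuadraticMap.polar (DFunLike.coe Q)

include hQ hn P in
theorem conjIso_fix_of_theta_eq_one {x : ↥(semi ⇑Q)} (hx : theta ⇑Q x = 1)
    (s : ↥(Cfsg.Omega F ⇑Q)) : conjIso ⇑Q x s.1 = s.1 := by
  set α := derivedAut (conjIso ⇑Q x) with hα
  have hz : ∀ t, t⁻¹ * α t ∈ Subgroup.center ↥(Cfsg.Omega F ⇑Q) := fun t => by
    have := DFunLike.congr_fun hx (QuotientGroup.mk t)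
    rw [theta_mk, MulAut.one_apply] at this
    exact QuotientGroup.eq.1 this.symm
  let z : ↥(Cfsg.Omega F ⇑Q) →* ↥(Subgroup.center ↥(Cfsg.Omega F ⇑Q)) :=
    MonoidHom.mk' (fun t => ⟨t⁻¹ * α t, hz t⟩) fun t u => by
      apply Subtype.ext
      show (t * u)⁻¹ * α (t * u) = t⁻¹ * α t * (u⁻¹ * α u)
      have hc := Subgroup.mem_center_iff.1 (hz t) u⁻¹
      rw [map_mul, _root_.mul_inv_rev, ← mul_assoc (t⁻¹ * α t), ← hc]
      simp only [mul_assoc]
  have hker : commutator ↥(Cfsg.Omega F ⇑Q) ≤ z.ker := by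
    rw [commutator_def, Subgroup.commutator_le]
    intro a _ b _
    rw [MonoidHom.mem_ker, map_commutatorElement, commutatorElement_eq_one_iff_commute]
    exact Subtype.ext (Subgroup.mem_center_iff.1 (z b).2 (z a).1)
  rw [TwoPairs.commutator_omega hQ hn P] at hker
  have h := congrArg Subtype.val (MonoidHom.mem_ker.1 (hker (Subgroup.mem_top s)))
  have h' : α s = s := (inv_mul_eq_one.1 h).symm
  exact congrArg Subtype.val h'

include hQ hn P in
theorem eichIso_mem_omega {u w : ι → F} (hu : Q u = 0) (huw : B u w = 0) :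
    eichIso Q u w hu huw ∈ Cfsg.Omega F ⇑Q := by
  rw [TwoPairs.omega_eq_eichGroup hQ hn P]
  exact eichIso_mem Q hu huw

include hQ hn P in
theorem act_eich_comm {x : ↥(semi ⇑Q)} (hx : theta ⇑Q x = 1) {u w : ι → F} (hu : Q u = 0)
    (huw : B u w = 0) (v : ι → F) : act x.1 (eich Q u w *ᵥ v) = eich Q u w *ᵥ act x.1 v := by
  have h := congrArg (isoEmb ⇑Q)
    (conjIso_fix_of_theta_eq_one hQ hn P hx ⟨_, eichIso_mem_omega hQ hn P hu huw⟩)
  rw [isoEmb_conjIso, mul_inv_eq_iff_eq_mul] at h
  exact act_eq_of_mul_comm (congrArg Subtype.val h) v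

include hQ in
theorem exists_pair_values {u w : ι → F} (hli : LinearIndependent F ![u, w]) :
    ∃ p, B u p = 0 ∧ B w p = -1 := by
  let φ : (ι → F) →ₗ[F] (Fin 2 → F) := LinearMap.pi fun i => QuadraticMap.polarBilin Q (![u, w] i)
  by_contra hc
  have hle : ∀ p, B u p = 0 → B w p = 0 := by
    intro p hp
    by_contra hne
    refine hc ⟨(-(B w p)⁻¹) • p, by rw [QuadraticMap.polar_smul_right, hp, smul_zero], ?_⟩
    rw [QuadraticMap.polar_smul_right, smul_eq_mul, neg_mul, inv_mul_cancel₀ hne]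
  have hsub : LinearMap.ker (QuadraticMap.polarBilin Q u) ≤ LinearMap.ker (QuadraticMap.polarBilin Q w) :=
    fun p hp => hle p hp
  obtain ⟨s, hs⟩ : ∃ s : F, ∀ p, B w p = s * B u p := by
    by_cases hu : ∀ p, B u p = 0
    · exact ⟨0, fun p => by rw [hle p (hu p), zero_mul]⟩
    push Not at hu
    obtain ⟨p0, hp0⟩ := hu
    refine ⟨B w p0 / B u p0, fun p => ?_⟩
    have h := hle (p - (B u p / B u p0) • p0) (by
      rw [QuadraticMap.polar_sub_right, QuadraticMap.polar_smul_right, smul_eq_mul,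
        div_mul_cancel₀ _ hp0, sub_self])
    rw [QuadraticMap.polar_sub_right, QuadraticMap.polar_smul_right, smul_eq_mul, sub_eq_zero] at h
    rw [h]; field_simp
  have h0 : w - s • u = 0 := hQ.1 _ fun p => by
    show B (w - s • u) p = 0
    rw [QuadraticMap.polar_sub_left, QuadraticMap.polar_smul_left, hs, smul_eq_mul, sub_self]
  have := LinearIndependent.pair_iff.1 hli (-s) 1 (by rw [one_smul, neg_smul, neg_add_eq_sub, h0])
  exact one_ne_zero this.2

include hQ hn P in
theorem act_mem_span {x : ↥(semi ⇑Q)} (hx : theta ⇑Q x = 1) {u w : ι → F} (hu : Q u = 0)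
    (huw : B u w = 0) (hli : LinearIndependent F ![u, w]) :
    ∃ r s : F, act x.1 u = r • u + s • w := by
  obtain ⟨p, hp1, hp2⟩ := exists_pair_values hQ hli
  have he : eich Q u w *ᵥ p = p + u := by
    rw [eich_mulVec, hp1, hp2]
    simp
  have h := act_eich_comm hQ hn P hx hu huw p
  rw [he, act_add, eich_mulVec] at h
  refine ⟨-(B w (act x.1 p)) - Q w * B u (act x.1 p), B u (act x.1 p), ?_⟩
  rw [eq_comm, ← sub_eq_iff_eq_add'] at h
  rw [← h]
  module

omit [Finite F] in
theorem li_of_polar {u w t : ι → F} (hut : B u t = 1) (hwt : B w t = 0) (hw : w ≠ 0) :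
    LinearIndependent F ![u, w] := by
  rw [LinearIndependent.pair_iff]
  intro r s h
  have hr : r = 0 := by
    have := congrArg (fun z => B z t) h
    simpa [QuadraticMap.polar_add_left, QuadraticMap.polar_smul_left, hut, hwt] using this
  refine ⟨hr, ?_⟩
  rw [hr, zero_smul, zero_add] at h
  exact (smul_eq_zero.1 h).resolve_right hw

include hQ hn P in
theorem act_e {x : ↥(semi ⇑Q)} (hx : theta ⇑Q x = 1) : ∃ r : F, act x.1 P.e = r • P.e := by
  have ha0 : P.a ≠ 0 := fun h => by
    have := P.ab; rw [h, QuadraticMap.polar_zero_left] at this; exact zero_ne_one this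
  have hb0 : P.b ≠ 0 := fun h => by
    have := P.ab; rw [h, QuadraticMap.polar_zero_right] at this; exact zero_ne_one this
  have haf : B P.a P.f = 0 := by rw [QuadraticMap.polar_comm, P.fa]
  have hbf : B P.b P.f = 0 := by rw [QuadraticMap.polar_comm, P.fb]
  obtain ⟨r, s, h1⟩ := act_mem_span hQ hn P hx P.qe P.ea (li_of_polar P.ef haf ha0)
  obtain ⟨r', s', h2⟩ := act_mem_span hQ hn P hx P.qe P.eb (li_of_polar P.ef hbf hb0)
  have h3 := congrArg (B P.b) (h1.symm.trans h2)
  have hbb : B P.b P.b = 0 := P.bb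
  have hba : B P.b P.a = 1 := by rw [QuadraticMap.polar_comm, P.ab]
  have hbe : B P.b P.e = 0 := by rw [QuadraticMap.polar_comm, P.eb]
  simp only [QuadraticMap.polar_add_right, QuadraticMap.polar_smul_right, smul_eq_mul, hbe, hba,
    hbb, mul_zero, mul_one, zero_add, add_zero] at h3
  exact ⟨r, by rw [h1, h3, zero_smul, add_zero]⟩

/-- The pairs with the first one reversed. -/
def _root_.CfsgLib.Forms4.TwoPairs.flip (P : TwoPairs Q) : TwoPairs Q where
  e := P.f
  f := P.e
  a := P.a
  b := P.b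
  qe := P.qf
  qf := P.qe
  qa := P.qa
  qb := P.qb
  ef := by rw [QuadraticMap.polar_comm, P.ef]
  ab := P.ab
  ea := P.fa
  eb := P.fb
  fa := P.ea
  fb := P.eb

include hQ hn P in
theorem act_inW {x : ↥(semi ⇑Q)} (hx : theta ⇑Q x = 1) {r s : F} (hr : act x.1 P.e = r • P.e)
    (hs : act x.1 P.f = s • P.f) {w : ι → F} (hw : P.InW w) :
    ∃ k : F, act x.1 w = s • w + k • P.e := by
  have h := act_eich_comm hQ hn P hx P.qe hw.1 P.f
  have he : eich Q P.e w *ᵥ P.f = P.f + w - Q w • P.e := by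
    rw [eich_mulVec, P.ef, show B w P.f = 0 by rw [QuadraticMap.polar_comm, hw.2]]
    simp; abel
  rw [he, act_sub, act_add, act_smul, hs, hr, Matrix.mulVec_smul, he, smul_sub, smul_add, smul_smul,
    smul_smul] at h
  refine ⟨x.1.right (Q w) * r - s * Q w, ?_⟩
  rw [← sub_eq_zero] at h ⊢
  rw [← h]
  module

include hQ hn P in
/-- A semisimilarity acting trivially on `PΩ` is scalar and linear. -/
theorem eq_scalar_of_theta_eq_one {x : ↥(semi ⇑Q)} (hx : theta ⇑Q x = 1) :
    ∃ t : Fˣ, x = scalarEmb Q t := by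
  obtain ⟨r, hr⟩ := act_e hQ hn P hx
  obtain ⟨s, hs⟩ := act_e hQ hn P.flip hx
  change act x.1 P.f = s • P.f at hs
  have ha0 : P.a ≠ 0 := fun h => by
    have := P.ab; rw [h, QuadraticMap.polar_zero_left] at this; exact zero_ne_one this
  have key : ∀ w, P.InW w → w ≠ 0 → act x.1 w = s • w ∧ s = r := by
    intro w hw hw0
    obtain ⟨k, hk⟩ := act_inW hQ hn P hx hr hs hw
    obtain ⟨k', hk'⟩ := act_inW hQ hn P.flip hx (r := s) (s := r) hs hr (w := w) ⟨hw.2, hw.1⟩
    change act x.1 w = r • w + k' • P.f at hk'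
    have h := hk.symm.trans hk'
    have hk0 : k = 0 := by
      have := congrArg (B P.f) h
      simpa [QuadraticMap.polar_add_right, QuadraticMap.polar_smul_right, hw.2, P.fe, P.ff] using this
    have hk0' : k' = 0 := by
      have := congrArg (B P.e) h
      simpa [QuadraticMap.polar_add_right, QuadraticMap.polar_smul_right, hw.1, P.ee, P.ef] using this.symm
    simp only [hk0, hk0', zero_smul, add_zero] at h
    refine ⟨by rw [hk, hk0, zero_smul, add_zero], ?_⟩
    by_contra hne
    rw [← sub_eq_zero, ← sub_smul] at h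
    exact hw0 ((smul_eq_zero.1 h).resolve_left (sub_ne_zero.2 hne))
  obtain ⟨haa, hsr⟩ := key P.a P.inW_a ha0
  subst hsr
  have hs0 : s ≠ 0 := fun h => ha0 (act_injective x.1 (by rw [haa, h, zero_smul, act_zero]))
  have hσ : ∀ t : F, x.1.right t = t := by
    intro t
    by_cases ht : t = 0
    · rw [ht, map_zero]
    have h1 := (key (t • P.a) (P.inW_smul P.inW_a t) (smul_ne_zero ht ha0)).1
    rw [act_smul, haa, smul_smul, smul_smul] at h1
    exact mul_right_cancel₀ hs0 ((smul_left_injective F ha0 h1).trans (mul_comm s t))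
  have hall : ∀ v, act x.1 v = s • v := by
    intro v
    have hW : act x.1 (P.proj v) = s • P.proj v := by
      by_cases hw : P.proj v = 0
      · rw [hw, act_zero, smul_zero]
      · exact (key _ (P.inW_proj v) hw).1
    conv_lhs => rw [P.decomp v]
    rw [act_add, act_add, act_smul, act_smul, hσ, hσ, hr, hs, hW]
    conv_rhs => rw [P.decomp v]
    module
  refine ⟨Units.mk0 s hs0, Subtype.ext (SemidirectProduct.ext ?_ ?_)⟩
  · refine Units.ext (Matrix.ext_iff_mulVec.2 fun v => ?_)
    have h1 : x.1.left.1 *ᵥ v = act x.1 v := by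
      unfold act
      simp only [hσ]
    rw [h1, hall]
    exact (act_scalar (Units.mk0 s hs0) v).symm
  · exact RingEquiv.ext hσ

include hQ hn P in
theorem outHom_eq_one_iff (x : ↥(semi ⇑Q)) :
    outHom ⇑Q x = 1 ↔ ∃ (t : Fˣ) (s : ↥(Cfsg.Omega F ⇑Q)), x = scalarEmb Q t * isoEmb ⇑Q s.1 := by
  constructor
  · intro hx
    obtain ⟨y, hy⟩ := (QuotientGroup.eq_one_iff _).1 hx
    obtain ⟨s, rfl⟩ := QuotientGroup.mk_surjective y
    have h : theta ⇑Q (x * (isoEmb ⇑Q s.1)⁻¹) = 1 := by
      rw [map_mul, map_inv, theta_isoEmb, mul_inv_eq_one]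
      exact hy.symm
    obtain ⟨t, ht⟩ := eq_scalar_of_theta_eq_one hQ hn P h
    exact ⟨t, s, by rw [← ht, inv_mul_cancel_right]⟩
  · rintro ⟨t, s, rfl⟩
    refine (QuotientGroup.eq_one_iff _).2 ?_
    rw [map_mul, theta_scalarEmb, one_mul, theta_isoEmb]
    exact ⟨_, rfl⟩

end Faithful

end CfsgLib.OutPOmega
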