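import Cfsg.Agent.OutPOmega.OddChar
import Cfsg.Agent.AutPOmega.Std
import Cfsg.Agent.Forms.OrthNegOne
import Cfsg.Agent.Forms.Diagonal

/-!
# Frobenius lifts and similitudes of the standard forms
-/

set_option autoImplicit false
set_option linter.unusedSectionVars false

namespace CfsgLib.OutPOmega

open Matrix Module CfsgLib.Spinor CfsgLib.Forms CfsgLib.Forms4 CfsgLib.StdForms

variable {F : Type*} [Field F] [Fintype F] {p f : ℕ} [Fact p.Prime]

section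

variable {ι : Type} [Fintype ι] [DecidableEq ι] {Q : QuadraticForm F (ι → F)}

/-- A semisimilarity from a matrix. -/
theorem exists_semi_of_matrix (M : Matrix ι ι F) (hM : M.det ≠ 0) (σ : F ≃+* F) (c : F) (hc : c ≠ 0)
    (h : ∀ v, Q (M *ᵥ fun i => σ (v i)) = c * σ (Q v)) (P : TwoPairs Q) :
    ∃ x : ↥(semi ⇑Q), (fldHom ⇑Q x = σ ∧ (mult x : F) = c) ∧ x.1.left.1 = M := by
  have hmem : (⟨GeneralLinearGroup.mkOfDetNeZero M hM, σ⟩ : SemiAmb ι F) ∈ semi ⇑Q :=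
    ⟨Units.mk0 c hc, h⟩
  refine ⟨⟨_, hmem⟩, ⟨rfl, ?_⟩, rfl⟩
  have := mult_eq P (x := ⟨_, hmem⟩) (c := Units.mk0 c hc) h
  rw [this]
  rfl

theorem exists_fieldGen_of_sdet (hF : Fintype.card F = p ^ f) (hf : 1 ≤ f) (P : TwoPairs Q)
    (h : ∀ σ : F ≃+* F, (∀ x, σ x = x ^ p) → ∀ v, Q (fun i => σ (v i)) = σ (Q v)) :
    ∃ Φ : FieldGen P f, Φ.φ ^ f = 1 := by
  obtain ⟨σ, hσ, hord, hgen⟩ := exists_frob (F := F) hF hf
  have hmem : (⟨1, σ⟩ : SemiAmb ι F) ∈ semi ⇑Q := ⟨1, fun v => by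
    show Q ((1 : Matrix ι ι F) *ᵥ fun i => σ (v i)) = _
    rw [Matrix.one_mulVec, h σ hσ, Units.val_one, one_mul]⟩
  refine ⟨⟨⟨⟨1, σ⟩, hmem⟩, mult_eq P fun v => ?_, hord, hgen⟩, ?_⟩
  · show Q ((1 : Matrix ι ι F) *ᵥ fun i => σ (v i)) = _
    rw [Matrix.one_mulVec, h σ hσ, Units.val_one, one_mul]
  · refine Subtype.ext ?_
    show (SemidirectProduct.inr σ : SemiAmb ι F) ^ f = 1
    rw [← map_pow, orderOf_dvd_iff_pow_eq_one.1 (dvd_of_eq hord), map_one]

theorem negIso_mem_iff :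
    negIso Q ∈ Cfsg.Omega F ⇑Q ↔
      ∃ g : ↥(Cfsg.isometryGroup F ⇑Q), g ∈ Cfsg.Omega F ⇑Q ∧ mat Q g = -1 := by
  have hm : mat Q (negIso Q) = -1 := by
    show (Matrix.GeneralLinearGroup.scalar ι (-1 : Fˣ)).1 = -1
    simp [Matrix.GeneralLinearGroup.scalar]
  exact ⟨fun h => ⟨_, h, hm⟩, fun ⟨g, hg, e⟩ => mat_ext Q (hm.trans e.symm) ▸ hg⟩

theorem sqHom_eq_neg [DecidableEq F] {P : TwoPairs Q} {x : ↥(semi ⇑Q)} {α : F}
    (hx : (mult x : F) = α) (hα : ¬ IsSquare α) : sqHom P x = -1 := by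
  ext
  rw [sqHom_coe, hx, quadraticChar_neg_one_iff_not_isSquare.2 hα]
  rfl

end

theorem frob_plus (m : ℕ) (σ : F ≃+* F) (v : Fin m ⊕ Fin m → F) :
    plusQ m F (fun i => σ (v i)) = σ (plusQ m F v) := by
  simp [plusQ_apply, Cfsg.quadFormPlus, map_sum]

theorem frob_odd (m : ℕ) (σ : F ≃+* F) (v : Unit ⊕ (Fin m ⊕ Fin m) → F) :
    oddQ m F (fun i => σ (v i)) = σ (oddQ m F v) := by
  simp [oddQ_apply, Cfsg.quadFormOdd, map_sum]

theorem exists_plus_similitude (m : ℕ) (P : TwoPairs (plusQ m F)) {α : F} (hα : α ≠ 0) :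
    ∃ d : ↥(semi ⇑(plusQ m F)), fldHom _ d = 1 ∧ (mult d : F) = α := by
  obtain ⟨x, hx, -⟩ := exists_semi_of_matrix (Q := plusQ m F)
    (Matrix.diagonal (Sum.elim (fun _ => α) fun _ => 1))
    (by simp [Matrix.det_diagonal, hα]) 1 α hα (fun v => by
      simp [plusQ_apply, Cfsg.quadFormPlus, Matrix.mulVec_diagonal, Finset.mul_sum, mul_assoc]) P
  exact ⟨x, hx⟩

theorem minus_block (k : ℕ) (a b : F) (A : Fin k → F) (c : F) (σ : F ≃+* F) (M : Matrix (Fin 2) (Fin 2) F)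
    (hA : ∀ i, A i = c) (hM : ∀ z₁ z₂ : F,
      (M 0 0 * σ z₁ + M 0 1 * σ z₂) ^ 2 + a * (M 0 0 * σ z₁ + M 0 1 * σ z₂) * (M 1 0 * σ z₁ + M 1 1 * σ z₂)
        + b * (M 1 0 * σ z₁ + M 1 1 * σ z₂) ^ 2 = c * σ (z₁ ^ 2 + a * z₁ * z₂ + b * z₂ ^ 2))
    (v : (Fin k ⊕ Fin k) ⊕ Fin 2 → F) :
    minusQ k F a b (Matrix.fromBlocks (Matrix.diagonal (Sum.elim A fun _ => 1)) 0 0 M *ᵥ
      fun i => σ (v i)) = c * σ (minusQ k F a b v) := by
  rw [Matrix.fromBlocks_mulVec, minusQ_apply, minusQ_apply]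
  simp only [Cfsg.quadFormMinus, Matrix.zero_mulVec, add_zero, zero_add, Sum.elim_inl, Sum.elim_inr,
    Matrix.mulVec_diagonal, one_mul, Function.comp_apply, hA, map_add, mul_add]
  congr 1
  · rw [map_sum, Finset.mul_sum]
    exact Finset.sum_congr rfl fun i _ => by rw [map_mul]; ring
  · have := hM (v (.inr 0)) (v (.inr 1))
    simp only [map_add, mul_add] at this
    rw [← this]
    simp [Matrix.mulVec, dotProduct, Fin.sum_univ_two]
    ring

theorem det_minus_block (k : ℕ) (c : F) (M : Matrix (Fin 2) (Fin 2) F) :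
    (Matrix.fromBlocks (Matrix.diagonal (Sum.elim (fun _ : Fin k => c) fun _ : Fin k => (1 : F))) 0 0
      M).det = c ^ k * M.det := by
  rw [Matrix.det_fromBlocks_zero₂₁, Matrix.det_diagonal, Fintype.prod_sum_type]
  simp

variable {a b : F} (hab : ∀ z₁ z₂ : F, z₁ ^ 2 + a * z₁ * z₂ + b * z₂ ^ 2 = 0 → z₁ = 0 ∧ z₂ = 0)

include hab in
theorem not_isSquare_disc (h2 : (2 : F) ≠ 0) : ¬ IsSquare ((a ^ 2 - 4 * b) / 4) := by
  rintro ⟨r, hr⟩
  have h4 : (4 : F) ≠ 0 := by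
    rw [show (4 : F) = 2 * 2 by norm_num]
    exact mul_ne_zero h2 h2
  refine one_ne_zero (α := F) (hab (-a / 2 + r) 1 ?_).2
  field_simp at hr ⊢
  linear_combination -hr

include hab in
theorem exists_minus_similitude (h2 : (2 : F) ≠ 0) (k : ℕ) (P : TwoPairs (minusQ k F a b)) {α : F}
    (hα : α ≠ 0) : ∃ d : ↥(semi ⇑(minusQ k F a b)), fldHom _ d = 1 ∧ (mult d : F) = α := by
  set ν := (a ^ 2 - 4 * b) / 4 with hν
  have hν0 : ν ≠ 0 := fun h => not_isSquare_disc hab h2 (by rw [← hν, h]; exact IsSquare.zero)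
  obtain ⟨x, w, hxw⟩ := exists_diag_binary h2 one_ne_zero (neg_ne_zero.2 hν0) α
  set u := x - a / 2 * w with hu
  have hN : u ^ 2 + a * u * w + b * w ^ 2 = α := by
    rw [← hxw, hu, hν]
    have h4 : (4 : F) ≠ 0 := by
      rw [show (4 : F) = 2 * 2 by norm_num]
      exact mul_ne_zero h2 h2
    field_simp
    ring
  obtain ⟨y, hy, -⟩ := exists_semi_of_matrix (Q := minusQ k F a b)
    (Matrix.fromBlocks (Matrix.diagonal (Sum.elim (fun _ => α) fun _ => 1)) 0 0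
      !![u, -(b * w); w, u + a * w])
    (by
      rw [det_minus_block, Matrix.det_fin_two]
      simp only [Matrix.of_apply, Matrix.cons_val_zero, Matrix.cons_val_one, Matrix.cons_val']
      refine mul_ne_zero (pow_ne_zero _ hα) fun h => hα ?_
      rw [← hN]
      linear_combination h)
    1 α hα (minus_block k a b _ α 1 _ (fun _ => rfl) fun z₁ z₂ => by
      simp only [Matrix.of_apply, Matrix.cons_val_zero, Matrix.cons_val_one, RingAut.one_apply,
        Matrix.cons_val']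
      rw [← hN]
      ring) P
  exact ⟨y, hy⟩

include hab in
theorem exists_minus_fieldGen (hF : Fintype.card F = p ^ f) (hf : 1 ≤ f) (h2 : (2 : F) ≠ 0) (k : ℕ)
    (P : TwoPairs (minusQ k F a b)) : ∃ Φ : FieldGen P f, sdet (Φ.φ ^ f) = -1 := by
  obtain ⟨σ, hσ, hord, hgen⟩ := exists_frob (F := F) hF hf
  have hch := charP_of_card hF
  have hp2 : p ≠ 2 := fun e => h2 (by subst e; exact CharTwo.two_eq_zero)
  obtain ⟨r, hr⟩ : Odd p := (Fact.out : p.Prime).odd_of_ne_two hp2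
  set ν := (a ^ 2 - 4 * b) / 4 with hν
  have hns := not_isSquare_disc hab h2
  rw [← hν] at hns
  have hν0 : ν ≠ 0 := fun h => hns (by rw [h]; exact IsSquare.zero)
  set κ := ν ^ r with hκ
  have hκν : κ ^ 2 * ν = σ ν := by rw [hσ, hκ, hr]; ring
  have h4 : (4 : F) ≠ 0 := by
    rw [show (4 : F) = 2 * 2 by norm_num]
    exact mul_ne_zero h2 h2
  have hσν : κ ^ 2 * ν = ((σ a) ^ 2 - 4 * σ b) / 4 := by
    rw [hκν, hν, map_div₀, map_sub, map_pow, map_mul, map_ofNat]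
  rw [hν] at hσν
  obtain ⟨φ, ⟨hφ1, hφ2⟩, hφ3⟩ := exists_semi_of_matrix (Q := minusQ k F a b)
    (Matrix.fromBlocks (Matrix.diagonal (Sum.elim (fun _ => 1) fun _ => 1)) 0 0
      !![1, (σ a - a * κ) / 2; 0, κ])
    (by
      rw [det_minus_block, Matrix.det_fin_two]
      simp [hκ, hν0])
    σ 1 one_ne_zero (minus_block k a b _ 1 σ _ (fun _ => rfl) fun z₁ z₂ => by
      simp only [Matrix.of_apply, Matrix.cons_val_zero, Matrix.cons_val_one,
        Matrix.cons_val', map_add, map_mul, map_pow]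
      field_simp at hσν ⊢
      linear_combination (-(σ z₂) ^ 2) * hσν) P
  refine ⟨⟨φ, Units.ext hφ2, by rw [hφ1]; exact hord, fun τ => by rw [hφ1]; exact hgen τ⟩, ?_⟩
  have hdφ : sdet φ = κ := by
    show φ.1.left.1.det = κ
    rw [hφ3, det_minus_block, Matrix.det_fin_two]
    simp
  have hind : ∀ j : ℕ, sdet (φ ^ j) = ν ^ ((p ^ j - 1) / 2) := by
    intro j
    induction j with
    | zero =>
      rw [pow_zero]
      simp [sdet]
    | succ j ih =>
      rw [pow_succ', sdet_mul, ih, hdφ, show φ.1.right = σ from hφ1, hσ, hκ, ← pow_mul, ← pow_add]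
      congr 1
      obtain ⟨s, hs⟩ : Odd (p ^ j) := Odd.pow (show Odd p from ⟨r, hr⟩)
      rw [pow_succ, hs, hr, show (2 * s + 1) * (2 * r + 1) - 1 = 2 * (r + s * (2 * r + 1)) by
        rw [show (2 * s + 1) * (2 * r + 1) = 2 * (r + s * (2 * r + 1)) + 1 by ring]; rfl,
        show 2 * s + 1 - 1 = 2 * s from rfl, Nat.mul_div_cancel_left _ two_pos,
        Nat.mul_div_cancel_left _ two_pos]
  have hchar : ringChar F ≠ 2 := by rw [ringChar.eq F p]; exact hp2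
  show sdet (φ ^ f) = -1
  rw [hind, ← hF, show (Fintype.card F - 1) / 2 = Fintype.card F / 2 by
    have := FiniteField.odd_card_of_char_ne_two hchar; omega]
  exact (FiniteField.pow_dichotomy hchar hν0).resolve_left fun h =>
    hns ((FiniteField.isSquare_iff hchar hν0).2 h)

/-- The numerical condition for `-1 ∈ Ω`. -/
theorem pow_mod_four_iff {q m : ℕ} (hq : Odd q) :
    q ^ m % 4 = 3 ↔ q % 4 = 3 ∧ Odd m := by
  have hq4 : q % 4 = 1 ∨ q % 4 = 3 := by
    obtain ⟨l, rfl⟩ := hq; omega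
  rcases Nat.even_or_odd m with ⟨l, rfl⟩ | ⟨l, rfl⟩
  · rw [← two_mul, pow_mul, Nat.pow_mod, Nat.pow_mod q]
    rcases hq4 with e | e <;> simp [e, parity_simps]
  · rw [pow_succ, pow_mul, Nat.mul_mod, Nat.pow_mod, Nat.pow_mod q]
    rcases hq4 with e | e <;> simp [e, parity_simps]

theorem odd_of_pow_mod_four {q : ℕ} (h : q ^ f % 4 = 3) : Odd f := by
  rcases Nat.even_or_odd f with ⟨l, rfl⟩ | h'
  · exfalso
    rw [← two_mul, pow_mul, Nat.pow_mod, Nat.pow_mod q] at h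
    have : q % 4 < 4 := Nat.mod_lt _ (by norm_num)
    have e2 : (q % 4) ^ 2 % 4 = 0 ∨ (q % 4) ^ 2 % 4 = 1 := by
      generalize q % 4 = r at this ⊢
      interval_cases r <;> norm_num
    rcases e2 with e | e <;> rw [e] at h
    · rcases Nat.eq_zero_or_pos l with rfl | hl
      · norm_num at h
      · rw [zero_pow hl.ne'] at h; norm_num at h
    · norm_num at h
  · exact h'

end CfsgLib.OutPOmega
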